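import Mathlib
import Cfsg.Prelude.Def_Characters
import Cfsg.Agent.Lib.Char.Ortho
import Cfsg.Agent.Lib.Char.Integral

/-!
Divisibility by a natural number inside the algebraic integers, orbit sums for `p`-groups,
the action of a group of operators on irreducible characters, multiplicities as naturals.
-/

set_option autoImplicit false

namespace H88

open Cfsg
open scoped ComplexConjugate

/-- `x` is `p` times an algebraic integer. -/
def PDvd (p : ℕ) (x : ℂ) : Prop := ∃ r : ℂ, IsIntegral ℤ r ∧ x = p * r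

section pdvd

variable {p : ℕ}

theorem PDvd.zero : PDvd p 0 := ⟨0, isIntegral_zero, by simp⟩

theorem PDvd.add {x y : ℂ} (hx : PDvd p x) (hy : PDvd p y) : PDvd p (x + y) := by
  obtain ⟨r, hr, rfl⟩ := hx
  obtain ⟨s, hs, rfl⟩ := hy
  exact ⟨r + s, hr.add hs, by ring⟩

theorem PDvd.neg {x : ℂ} (hx : PDvd p x) : PDvd p (-x) := by
  obtain ⟨r, hr, rfl⟩ := hx
  exact ⟨-r, hr.neg, by ring⟩

theorem PDvd.sub {x y : ℂ} (hx : PDvd p x) (hy : PDvd p y) : PDvd p (x - y) := by
  rw [sub_eq_add_neg]; exact hx.add hy.neg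

theorem PDvd.mul_left {x : ℂ} (hx : PDvd p x) {c : ℂ} (hc : IsIntegral ℤ c) : PDvd p (c * x) := by
  obtain ⟨r, hr, rfl⟩ := hx
  exact ⟨c * r, hc.mul hr, by ring⟩

theorem PDvd.mul_right {x : ℂ} (hx : PDvd p x) {c : ℂ} (hc : IsIntegral ℤ c) : PDvd p (x * c) := by
  rw [mul_comm]; exact hx.mul_left hc

theorem PDvd.sum {ι : Type*} (s : Finset ι) {f : ι → ℂ} (h : ∀ i ∈ s, PDvd p (f i)) :
    PDvd p (∑ i ∈ s, f i) :=
  Finset.sum_induction f (PDvd p) (fun _ _ => PDvd.add) PDvd.zero h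

theorem PDvd.congr {x y : ℂ} (hx : PDvd p x) (h : x = y) : PDvd p y := h ▸ hx

theorem PDvd.symm_sub {x y : ℂ} (h : PDvd p (x - y)) : PDvd p (y - x) :=
  h.neg.congr (by ring)

theorem PDvd.trans_sub {x y z : ℂ} (h : PDvd p (x - y)) (h' : PDvd p (y - z)) : PDvd p (x - z) :=
  (h.add h').congr (by ring)

theorem PDvd.isIntegral {x : ℂ} (hx : PDvd p x) : IsIntegral ℤ x := by
  obtain ⟨r, hr, rfl⟩ := hx
  exact (isIntegral_natCast _).mul hr

theorem isIntegral_natCast' (n : ℕ) : IsIntegral ℤ (n : ℂ) := isIntegral_natCast n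

theorem isIntegral_intCast' (n : ℤ) : IsIntegral ℤ (n : ℂ) := isIntegral_intCast n

theorem isIntegral_conj {x : ℂ} (hx : IsIntegral ℤ x) : IsIntegral ℤ (conj x) :=
  hx.map (starRingEnd ℂ).toIntAlgHom

theorem PDvd.conj {x : ℂ} (hx : PDvd p x) : PDvd p (conj x) := by
  obtain ⟨r, hr, rfl⟩ := hx
  exact ⟨_, isIntegral_conj hr, by simp⟩

theorem pdvd_of_int_dvd {n : ℤ} (h : (p : ℤ) ∣ n) : PDvd p (n : ℂ) := by
  obtain ⟨k, rfl⟩ := h
  exact ⟨k, isIntegral_intCast' k, by push_cast; ring⟩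

theorem pdvd_of_nat_dvd {n : ℕ} (h : p ∣ n) : PDvd p (n : ℂ) := by
  obtain ⟨k, rfl⟩ := h
  exact ⟨k, isIntegral_natCast' k, by push_cast; ring⟩

theorem PDvd.int_dvd {n : ℤ} (h : PDvd p (n : ℂ)) : (p : ℤ) ∣ n := by
  obtain ⟨r, hr, h⟩ := h
  rcases Nat.eq_zero_or_pos p with rfl | hp
  · have : (n : ℂ) = 0 := by simpa using h
    have : n = 0 := by exact_mod_cast this
    simp [this]
  have hp' : (p : ℂ) ≠ 0 := by exact_mod_cast hp.ne'
  have h1 : r = (((n : ℚ) / p : ℚ) : ℂ) := by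
    push_cast; rw [h]; field_simp
  obtain ⟨z, hz⟩ := H8.exists_int_of_isIntegral_rat (h1 ▸ hr)
  refine ⟨z, ?_⟩
  have hp'' : (p : ℚ) ≠ 0 := by exact_mod_cast hp.ne'
  have : (n : ℚ) = p * z := by rw [← hz]; field_simp
  exact_mod_cast this

theorem PDvd.nat_dvd {n : ℕ} (h : PDvd p (n : ℂ)) : p ∣ n := by
  have : PDvd p ((n : ℤ) : ℂ) := by simpa using h
  exact_mod_cast this.int_dvd

theorem PDvd.modEq {a b : ℕ} (h : PDvd p ((a : ℂ) - b)) : a ≡ b [MOD p] := by
  have : PDvd p (((b : ℤ) - a : ℤ) : ℂ) := by simpa using h.symm_sub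
  exact (Nat.modEq_iff_dvd).2 this.int_dvd

theorem pdvd_of_modEq {a b : ℕ} (h : a ≡ b [MOD p]) : PDvd p ((a : ℂ) - b) := by
  have := pdvd_of_int_dvd ((Nat.modEq_iff_dvd).1 h.symm)
  simpa using this

end pdvd

section orbit

variable {p : ℕ} [hp : Fact p.Prime] {A : Type*} [Group A] {X : Type*} [MulAction A X] [Fintype X]

/-- The sum of an invariant function vanishing at the fixed points of a `p`-group is `p` times an
element of any additive submonoid containing the values. -/
theorem exists_sum_eq_p_smul {M : Type*} [AddCommMonoid M] (hA : IsPGroup p A) (R : AddSubmonoid M)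
    (f : X → M) (hinv : ∀ (a : A) x, f (a • x) = f x) (hR : ∀ x, f x ∈ R)
    (h0 : ∀ x, (∀ a : A, a • x = x) → f x = 0) : ∃ r ∈ R, ∑ x, f x = p • r := by
  classical
  let q : X → MulAction.orbitRel.Quotient A X := Quotient.mk''
  haveI : Fintype (MulAction.orbitRel.Quotient A X) := Fintype.ofFinite _
  rw [← Finset.sum_fiberwise (s := Finset.univ) q f]
  have key : ∀ ω : MulAction.orbitRel.Quotient A X,
      ∃ r ∈ R, ∑ x ∈ Finset.univ.filter (fun x => q x = ω), f x = p • r := by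
    intro ω
    obtain ⟨y, rfl⟩ : ∃ y, q y = ω := Quotient.exists_rep ω
    have hmem : ∀ x, q x = q y ↔ x ∈ MulAction.orbit A y := fun x =>
      Quotient.eq''.trans MulAction.orbitRel_apply
    have hconst : ∀ x ∈ Finset.univ.filter (fun x => q x = q y), f x = f y := by
      intro x hx
      obtain ⟨a, rfl⟩ := (hmem x).1 (Finset.mem_filter.1 hx).2
      exact hinv a y
    rw [Finset.sum_congr rfl hconst, Finset.sum_const]
    have hcard : (Finset.univ.filter (fun x => q x = q y)).card = Nat.card (MulAction.orbit A y) := by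
      rw [Nat.card_eq_fintype_card, Fintype.card_subtype]
      congr 1
      ext x
      simp [hmem]
    obtain ⟨n, hn⟩ := hA.card_orbit y
    rw [hcard, hn]
    cases n with
    | zero =>
      have hfix : y ∈ MulAction.fixedPoints A X := by
        rw [MulAction.mem_fixedPoints_iff_card_orbit_eq_one, ← Nat.card_eq_fintype_card, hn, pow_zero]
      exact ⟨0, R.zero_mem, by rw [h0 y hfix]; simp⟩
    | succ n => exact ⟨p ^ n • f y, R.nsmul_mem (hR y) _, by rw [smul_smul, pow_succ']⟩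
  choose r hr hr' using key
  exact ⟨∑ ω, r ω, R.sum_mem fun ω _ => hr ω, by rw [Finset.smul_sum]; exact Finset.sum_congr rfl fun ω _ => hr' ω⟩

/-- Orbit sums: the sum over `X` is congruent to the sum over the fixed points. -/
theorem pdvd_sum_sub_sum_filter (hA : IsPGroup p A) (f : X → ℂ)
    (hinv : ∀ (a : A) x, f (a • x) = f x) (hint : ∀ x, IsIntegral ℤ (f x))
    (P : X → Prop) [DecidablePred P] (hP : ∀ x, P x ↔ ∀ a : A, a • x = x) :
    PDvd p (∑ x, f x - ∑ x ∈ Finset.univ.filter P, f x) := by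
  classical
  have hPinv : ∀ (a : A) x, P (a • x) ↔ P x := by
    intro a x
    rw [hP, hP]
    constructor
    · intro h b
      have h1 : a • x = x := by
        have := h a⁻¹
        rw [inv_smul_smul] at this
        exact this.symm
      rw [h1] at h
      exact h b
    · intro h b
      rw [h a, h b]
  obtain ⟨r, hr, h⟩ := exists_sum_eq_p_smul hA (integralClosure ℤ ℂ).toSubring.toAddSubgroup.toAddSubmonoid
    (fun x => if P x then 0 else f x) (fun a x => by simp only [hPinv, hinv])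
    (fun x => by
      split_ifs
      · exact zero_mem _
      · exact hint x)
    (fun x hx => by rw [if_pos ((hP x).2 hx)])
  refine ⟨r, hr, ?_⟩
  rw [nsmul_eq_mul] at h
  rw [← h, Finset.sum_filter, ← Finset.sum_sub_distrib]
  refine Finset.sum_congr rfl fun x _ => ?_
  split_ifs <;> simp

/-- Orbit sums, the fixed points being parametrised by an injective map. -/
theorem pdvd_sum_sub_sum_comp (hA : IsPGroup p A) (f : X → ℂ)
    (hinv : ∀ (a : A) x, f (a • x) = f x) (hint : ∀ x, IsIntegral ℤ (f x))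
    {C : Type*} [Fintype C] (ι : C → X) (hι : Function.Injective ι)
    (hfix : ∀ x, (∃ c, ι c = x) ↔ ∀ a : A, a • x = x) :
    PDvd p (∑ x, f x - ∑ c, f (ι c)) := by
  classical
  have h := pdvd_sum_sub_sum_filter hA f hinv hint (fun x => ∃ c, ι c = x) hfix
  refine h.congr ?_
  congr 1
  symm
  refine Finset.sum_bij (fun c _ => ι c) (fun c _ => by simp) (fun a _ b _ h => hι h) ?_ (fun _ _ => rfl)
  intro x hx
  obtain ⟨c, rfl⟩ := (Finset.mem_filter.1 hx).2
  exact ⟨c, Finset.mem_univ _, rfl⟩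

end orbit

section action

variable {A G : Type*} [Group A] [Group G] [MulDistribMulAction A G]

/-- `χ` is invariant under the group of operators `A`. -/
def Inv (A : Type*) {G : Type*} [Group A] [Group G] [MulDistribMulAction A G] (χ : G → ℂ) : Prop :=
  ∀ (a : A) (g : G), χ (a • g) = χ g

theorem isIrr_smul {χ : G → ℂ} (h : IsIrrCharacter G χ) (a : A) :
    IsIrrCharacter G (fun g => χ (a • g)) :=
  H6.isIrrCharacter_comp_equiv (MulDistribMulAction.toMulEquiv G a) h

theorem isChar_smul {χ : G → ℂ} (h : IsCharacter G χ) (a : A) :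
    IsCharacter G (fun g => χ (a • g)) :=
  H6.isCharacter_comp (MulDistribMulAction.toMonoidHom G a) h

/-- The action of a group of operators on the irreducible characters. -/
@[reducible] def irrAction (A G : Type*) [Group A] [Group G] [MulDistribMulAction A G] :
    MulAction A (IrrCharacter G) where
  smul a χ := ⟨fun g => χ.1 (a⁻¹ • g), isIrr_smul χ.2 a⁻¹⟩
  one_smul χ := Subtype.ext (funext fun g => by
    change χ.1 ((1 : A)⁻¹ • g) = _
    rw [inv_one, one_smul])
  mul_smul a b χ := Subtype.ext (funext fun g => by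
    change χ.1 ((a * b)⁻¹ • g) = χ.1 (b⁻¹ • a⁻¹ • g)
    rw [mul_inv_rev, mul_smul])

theorem irrAction_apply (a : A) (χ : IrrCharacter G) (g : G) :
    (letI := irrAction A G; (a • χ).1 g) = χ.1 (a⁻¹ • g) := rfl

theorem irrAction_fixed_iff (χ : IrrCharacter G) :
    Inv A χ.1 ↔ (letI := irrAction A G; ∀ a : A, a • χ = χ) := by
  letI := irrAction A G
  constructor
  · intro h a
    exact Subtype.ext (funext fun g => h a⁻¹ g)
  · intro h a g
    have := congrArg (fun ψ : IrrCharacter G => ψ.1 g) (h a⁻¹)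
    simpa [irrAction_apply] using this

/-- Orbit sums over the irreducible characters. -/
theorem pdvd_sum_irr_sub [Finite G] {p : ℕ} [Fact p.Prime] (hA : IsPGroup p A)
    (f : IrrCharacter G → ℂ)
    (hinv : ∀ (a : A) (χ : IrrCharacter G), f ⟨fun g => χ.1 (a • g), isIrr_smul χ.2 a⟩ = f χ)
    (hint : ∀ χ, IsIntegral ℤ (f χ)) [DecidablePred fun χ : IrrCharacter G => Inv A χ.1] :
    PDvd p (∑ χ, f χ - ∑ χ ∈ Finset.univ.filter (fun χ : IrrCharacter G => Inv A χ.1), f χ) := by
  letI := irrAction A G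
  exact pdvd_sum_sub_sum_filter hA f (fun a χ => hinv a⁻¹ χ) hint _ irrAction_fixed_iff

theorem classInner_smul_smul [Fintype G] (a : A) (φ ψ : G → ℂ) :
    classInner (fun g => φ (a • g)) (fun g => ψ (a • g)) = classInner φ ψ :=
  H6.classInner_comp_equiv (MulAction.toPerm a) φ ψ

end action

section mult

variable {G : Type*} [Group G] [Fintype G]

/-- The inner product of two characters as a natural number. -/
noncomputable def mult (φ ψ : G → ℂ) : ℕ := ⌊(classInner φ ψ).re⌋₊

theorem mult_cast {φ ψ : G → ℂ} (hφ : IsCharacter G φ) (hψ : IsCharacter G ψ) :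
    (mult φ ψ : ℂ) = classInner φ ψ := by
  obtain ⟨n, hn⟩ := H6.char_inner_nat hφ hψ
  rw [mult, hn]; simp

theorem mult_eq_of_eq {φ ψ : G → ℂ} {m : ℕ} (h : classInner φ ψ = m) : mult φ ψ = m := by
  rw [mult, h]; simp

theorem mult_comm {φ ψ : G → ℂ} (hφ : IsCharacter G φ) (hψ : IsCharacter G ψ) :
    mult φ ψ = mult ψ φ := by
  rw [mult, mult, H6.char_inner_comm hφ hψ]

theorem mult_ne_zero_iff {φ ψ : G → ℂ} (hφ : IsCharacter G φ) (hψ : IsCharacter G ψ) :
    mult φ ψ ≠ 0 ↔ classInner φ ψ ≠ 0 := by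
  rw [← mult_cast hφ hψ]; simp

theorem char_eq_sum_mult {φ : G → ℂ} (hφ : IsCharacter G φ) (g : G) :
    φ g = ∑ χ : IrrCharacter G, (mult φ χ.1 : ℂ) * χ.1 g := by
  rw [H6.classFun_apply_eq_sum_irr (H6.char_isClassFunction hφ)]
  exact Finset.sum_congr rfl fun χ _ => by rw [mult_cast hφ (H6.irr_isCharacter χ.2)]

theorem inner_eq_sum_mult {φ ψ : G → ℂ} (hφ : IsCharacter G φ) (hψ : IsCharacter G ψ) :
    classInner φ ψ = ∑ χ : IrrCharacter G, (mult φ χ.1 : ℂ) * mult ψ χ.1 := by
  rw [H6.parseval (H6.char_isClassFunction hφ)]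
  refine Finset.sum_congr rfl fun χ _ => ?_
  rw [← mult_cast hφ (H6.irr_isCharacter χ.2), ← mult_cast hψ (H6.irr_isCharacter χ.2)]
  simp

theorem card_mul_mult {φ ψ : G → ℂ} (hφ : IsCharacter G φ) (hψ : IsCharacter G ψ) :
    (Nat.card G : ℂ) * mult φ ψ = ∑ g, φ g * conj (ψ g) := by
  rw [mult_cast hφ hψ, H6.card_mul_classInner]

theorem card_mul_mult' {φ ψ : G → ℂ} (hφ : IsCharacter G φ) (hψ : IsCharacter G ψ) :
    (Nat.card G : ℂ) * mult φ ψ = ∑ g, conj (φ g) * ψ g := by
  rw [mult_comm hφ hψ, card_mul_mult hψ hφ]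
  exact Finset.sum_congr rfl fun g _ => mul_comm _ _

end mult

end H88
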