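import Mathlib
import Cfsg.Agent.Lib.Glaub.ModP

/-!
The Glauberman correspondence for a `p`-group of operators acting coprimely (abstract form).
`A` acts on `G`, `ι : C →* G` is injective with range the fixed points.
-/

set_option autoImplicit false
set_option linter.style.haveILetI false

namespace H88

open Cfsg
open scoped ComplexConjugate

section general

variable {G C : Type*} [Group G] [Fintype G] [Group C] [Fintype C]

open Classical in
theorem column_orthogonality_sum (x y : G) :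
    ∑ χ : IrrCharacter G, χ.1 x * conj (χ.1 y) = ∑ g : G, if g * x * g⁻¹ = y then (1 : ℂ) else 0 := by
  rw [Finset.sum_boole]
  by_cases h : IsConj x y
  · rw [H6.column_orthogonality_isConj h, ← H6.card_conj_eq h, Nat.card_eq_fintype_card,
      Fintype.card_subtype]
  · rw [H6.column_orthogonality_not_isConj h]
    have : Finset.univ.filter (fun g : G => g * x * g⁻¹ = y) = ∅ := by
      ext g
      simp only [Finset.mem_filter, Finset.mem_univ, true_and, Finset.notMem_empty, iff_false]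
      intro hg
      exact h (isConj_iff.2 ⟨g, hg⟩)
    rw [this]; simp

open Classical in
theorem sum_mult_mul_mult (ι : C →* G) {β γ : C → ℂ} (hβ : IsCharacter C β) (hγ : IsCharacter C γ) :
    (Nat.card C : ℂ) ^ 2 * ∑ χ : IrrCharacter G,
        (mult (fun c => χ.1 (ι c)) β : ℂ) * mult (fun c => χ.1 (ι c)) γ =
      ∑ c : C, ∑ d : C, conj (β c) * γ d *
        ∑ g : G, if g * ι c * g⁻¹ = ι d then (1 : ℂ) else 0 := by
  simp only [← column_orthogonality_sum, Finset.mul_sum]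
  have : ∀ χ : IrrCharacter G, (Nat.card C : ℂ) ^ 2 *
      ((mult (fun c => χ.1 (ι c)) β : ℂ) * mult (fun c => χ.1 (ι c)) γ) =
      ∑ c : C, ∑ d : C, conj (β c) * γ d * (χ.1 (ι c) * conj (χ.1 (ι d))) := by
    intro χ
    have hχ : IsCharacter C (fun c => χ.1 (ι c)) := H6.isCharacter_comp ι (H6.irr_isCharacter χ.2)
    have h1 := card_mul_mult hχ hβ
    have h2 := card_mul_mult' hχ hγ
    calc _ = ((Nat.card C : ℂ) * mult (fun c => χ.1 (ι c)) β) *
          ((Nat.card C : ℂ) * mult (fun c => χ.1 (ι c)) γ) := by ring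
      _ = _ := by
        rw [h1, h2, Finset.sum_mul_sum]
        exact Finset.sum_congr rfl fun c _ => Finset.sum_congr rfl fun d _ => by ring
  rw [Finset.sum_congr rfl fun χ _ => this χ, Finset.sum_comm]
  refine Finset.sum_congr rfl fun c _ => ?_
  rw [Finset.sum_comm]

/-- Convolution identity on `C` used for the uniqueness part. -/
theorem sum_sum_conv {φ ψ β : C → ℂ} (hφ : IsCharacter C φ) (hψ : IsCharacter C ψ)
    (hβ : IsIrrCharacter C β) :
    β 1 * ∑ c : C, conj (β c) * ∑ d : C, φ (d * c) * conj (ψ d) =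
      (Nat.card C : ℂ) ^ 2 * (mult φ β * mult ψ β) := by
  have hβc := H6.irr_isCharacter hβ
  have hβ' := H6.isIrrCharacter_conj hβ
  have h1 : conj (β 1) = β 1 := by
    obtain ⟨n, hn⟩ := H6.char_one_nat hβc
    rw [hn]; simp
  have inner : ∀ d : C, ∑ c : C, conj (β c) * φ (d * c) =
      (Nat.card C : ℂ) * mult φ β / β 1 * β d := by
    intro d
    have e1 : ∑ c : C, conj (β c) * φ (d * c) = ∑ c : C, φ c * conj (β (c * d⁻¹)) := by
      refine Fintype.sum_equiv (Equiv.mulLeft d) _ _ fun c => ?_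
      simp only [Equiv.coe_mulLeft]
      rw [mul_comm, H6.classFun_mul_comm (H6.char_isClassFunction hβc) (d * c) d⁻¹]
      simp
    rw [e1, H6.sum_mul_irr_mul hβ' (H6.char_isClassFunction hφ) d⁻¹, card_mul_mult hφ hβc, h1,
      H6.char_inv hβc]
    simp
  have e2 : ∑ c : C, conj (β c) * ∑ d : C, φ (d * c) * conj (ψ d) =
      ∑ d : C, conj (ψ d) * ∑ c : C, conj (β c) * φ (d * c) := by
    simp only [Finset.mul_sum]
    rw [Finset.sum_comm]
    exact Finset.sum_congr rfl fun d _ => Finset.sum_congr rfl fun c _ => by ring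
  rw [e2]
  simp only [inner]
  have e3 : ∑ d : C, conj (ψ d) * ((Nat.card C : ℂ) * mult φ β / β 1 * β d) =
      (Nat.card C : ℂ) * mult φ β / β 1 * ∑ d : C, conj (ψ d) * β d := by
    rw [Finset.mul_sum]
    exact Finset.sum_congr rfl fun d _ => by ring
  rw [e3, ← card_mul_mult' hψ hβc]
  have := H6.irr_one_ne_zero hβ
  field_simp

end general

section glauberman

variable {p : ℕ} [hp : Fact p.Prime] {A G C : Type*} [Group A] [Group G] [Fintype G] [Group C]
  [Fintype C] [MulDistribMulAction A G]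

/-- The data of a coprime action of a `p`-group with its fixed points. -/
structure GlSetup (p : ℕ) (A : Type*) {G C : Type*} [Group A] [Group G] [Group C]
    [MulDistribMulAction A G] (ι : C →* G) : Prop where
  pgroup : IsPGroup p A
  not_dvd : ¬ p ∣ Nat.card G
  inj : Function.Injective ι
  fix : ∀ g, (∃ c, ι c = g) ↔ ∀ a : A, a • g = g

variable {ι : C →* G}

omit hp [Fintype G] [Fintype C] in
theorem GlSetup.smul_ι (h : GlSetup p A ι) (a : A) (c : C) : a • ι c = ι c :=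
  (h.fix _).1 ⟨c, rfl⟩ a

omit hp [Fintype G] [Fintype C] in
theorem GlSetup.not_dvd_C (h : GlSetup p A ι) : ¬ p ∣ Nat.card C := fun hd =>
  h.not_dvd (hd.trans (Subgroup.card_dvd_of_injective ι h.inj))

theorem GlSetup.exists_corr_right (h : GlSetup p A ι) (χ : IrrCharacter G) (hχ : Inv A χ.1) :
    ∃ β : IrrCharacter C, ¬ p ∣ mult (fun c => χ.1 (ι c)) β.1 := by
  by_contra hcon
  push Not at hcon
  have hχc := H6.irr_isCharacter χ.2
  have hres : IsCharacter C (fun c => χ.1 (ι c)) := H6.isCharacter_comp ι hχc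
  have h1 := pdvd_sum_sub_sum_comp h.pgroup (fun g => χ.1 g * conj (χ.1 g))
    (fun a g => by simp only [hχ a g])
    (fun g => (H6.char_isIntegral hχc g).mul (isIntegral_conj (H6.char_isIntegral hχc g)))
    ι h.inj h.fix
  rw [← H6.card_mul_classInner, ← H6.card_mul_classInner (fun c => χ.1 (ι c)) (fun c => χ.1 (ι c)),
    H6.irr_inner_self χ.2, inner_eq_sum_mult hres hres] at h1
  have h2 : PDvd p ((Nat.card C : ℂ) * ∑ β : IrrCharacter C,
      (mult (fun c => χ.1 (ι c)) β.1 : ℂ) * mult (fun c => χ.1 (ι c)) β.1) :=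
    (PDvd.sum _ fun β _ => (pdvd_of_nat_dvd (hcon β)).mul_right (isIntegral_natCast' _)).mul_left
      (isIntegral_natCast' _)
  exact h.not_dvd ((h1.add h2).congr (by ring)).nat_dvd

theorem GlSetup.corr_unique_left (h : GlSetup p A ι) (χ ψ : IrrCharacter G) (hχ : Inv A χ.1)
    (hψ : Inv A ψ.1) (β : IrrCharacter C) (h1 : ¬ p ∣ mult (fun c => χ.1 (ι c)) β.1)
    (h2 : ¬ p ∣ mult (fun c => ψ.1 (ι c)) β.1) : χ = ψ := by
  by_contra hne
  have hne' : χ.1 ≠ ψ.1 := fun e => hne (Subtype.ext e)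
  have hχc := H6.irr_isCharacter χ.2
  have hψc := H6.irr_isCharacter ψ.2
  have hβc := H6.irr_isCharacter β.2
  have key : ∀ c : C, PDvd p (∑ d : C, χ.1 (ι (d * c)) * conj (ψ.1 (ι d))) := by
    intro c
    have h3 := pdvd_sum_sub_sum_comp h.pgroup (fun g => χ.1 (g * ι c) * conj (ψ.1 g))
      (fun a g => by
        rw [hψ a g, ← h.smul_ι a c, ← smul_mul', hχ, h.smul_ι])
      (fun g => (H6.char_isIntegral hχc _).mul (isIntegral_conj (H6.char_isIntegral hψc g)))
      ι h.inj h.fix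
    rw [H6.sum_irr_mul_conj χ.2 ψ.2, if_neg hne'] at h3
    refine h3.neg.congr ?_
    simp
  have h4 := sum_sum_conv (H6.isCharacter_comp ι hχc) (H6.isCharacter_comp ι hψc) β.2
  have h5 : PDvd p (β.1 1 * ∑ c : C, conj (β.1 c) * ∑ d : C, χ.1 (ι (d * c)) * conj (ψ.1 (ι d))) :=
    (PDvd.sum _ fun c _ => (key c).mul_left (isIntegral_conj (H6.char_isIntegral hβc c))).mul_left
      (H6.char_isIntegral hβc 1)
  rw [h4] at h5
  have h6 : p ∣ Nat.card C ^ 2 * (mult (fun c => χ.1 (ι c)) β.1 * mult (fun c => ψ.1 (ι c)) β.1) := by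
    apply PDvd.nat_dvd
    simpa using h5
  rcases (Nat.Prime.dvd_mul hp.out).1 h6 with h7 | h7
  · exact h.not_dvd_C (hp.out.dvd_of_dvd_pow h7)
  · rcases (Nat.Prime.dvd_mul hp.out).1 h7 with h8 | h8
    · exact h1 h8
    · exact h2 h8

open Classical in
theorem GlSetup.sum_inv_mult_mul (h : GlSetup p A ι) (β γ : IrrCharacter C) :
    (∑ χ ∈ Finset.univ.filter (fun χ : IrrCharacter G => Inv A χ.1),
      mult (fun c => χ.1 (ι c)) β.1 * mult (fun c => χ.1 (ι c)) γ.1) ≡
      (if β = γ then 1 else 0) [MOD p] := by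
  have hβc := H6.irr_isCharacter β.2
  have hγc := H6.irr_isCharacter γ.2
  have e1 := sum_mult_mul_mult ι hβc hγc
  have e2 := sum_mult_mul_mult (MonoidHom.id C) hβc hγc
  have e3 : ∑ χ : IrrCharacter C, (mult (fun c => χ.1 (MonoidHom.id C c)) β.1 : ℂ) *
      mult (fun c => χ.1 (MonoidHom.id C c)) γ.1 = if β = γ then 1 else 0 := by
    rw [← H6.irr_inner', inner_eq_sum_mult hβc hγc]
    refine Finset.sum_congr rfl fun χ _ => ?_
    rw [mult_comm hβc (H6.irr_isCharacter χ.2), mult_comm hγc (H6.irr_isCharacter χ.2)]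
    rfl
  rw [e3] at e2
  have e4 : PDvd p ((∑ c : C, ∑ d : C, conj (β.1 c) * γ.1 d *
        ∑ g : G, if g * ι c * g⁻¹ = ι d then (1 : ℂ) else 0) -
      ∑ c : C, ∑ d : C, conj (β.1 c) * γ.1 d *
        ∑ g : C, if g * MonoidHom.id C c * g⁻¹ = MonoidHom.id C d then (1 : ℂ) else 0) := by
    rw [← Finset.sum_sub_distrib]
    refine PDvd.sum _ fun c _ => ?_
    rw [← Finset.sum_sub_distrib]
    refine PDvd.sum _ fun d _ => ?_
    rw [← mul_sub]
    refine PDvd.mul_left ?_ ((isIntegral_conj (H6.char_isIntegral hβc c)).mul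
      (H6.char_isIntegral hγc d))
    have h3 := pdvd_sum_sub_sum_comp h.pgroup
      (fun g : G => if g * ι c * g⁻¹ = ι d then (1 : ℂ) else 0)
      (fun a g => by
        have : a • g * ι c * (a • g)⁻¹ = ι d ↔ g * ι c * g⁻¹ = ι d := by
          conv_lhs => rw [← h.smul_ι a c, ← h.smul_ι a d, ← smul_inv', ← smul_mul', ← smul_mul']
          exact smul_left_cancel_iff a
        simp only [this])
      (fun g => by split_ifs; exacts [isIntegral_one, isIntegral_zero])
      ι h.inj h.fix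
    refine h3.congr ?_
    congr 1
    refine Finset.sum_congr rfl fun g _ => ?_
    have : ι g * ι c * (ι g)⁻¹ = ι d ↔ g * c * g⁻¹ = d := by
      rw [← map_inv, ← map_mul, ← map_mul]
      exact h.inj.eq_iff
    simp only [this, MonoidHom.id_apply]
  rw [← e1, ← e2] at e4
  have e5 := pdvd_sum_irr_sub (A := A) (G := G) h.pgroup
    (fun χ => (mult (fun c => χ.1 (ι c)) β.1 : ℂ) * mult (fun c => χ.1 (ι c)) γ.1)
    (fun a χ => by simp only [h.smul_ι])
    (fun χ => (isIntegral_natCast' _).mul (isIntegral_natCast' _))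
  have e6 := e4.sub (e5.mul_left (isIntegral_natCast' (Nat.card C ^ 2)))
  have e7 : PDvd p (((Nat.card C ^ 2 *
      ∑ χ ∈ Finset.univ.filter (fun χ : IrrCharacter G => Inv A χ.1),
        mult (fun c => χ.1 (ι c)) β.1 * mult (fun c => χ.1 (ι c)) γ.1 : ℕ) : ℂ) -
      ((Nat.card C ^ 2 * (if β = γ then 1 else 0) : ℕ) : ℂ)) := by
    refine e6.congr ?_
    push_cast
    ring
  have hc : Nat.gcd p (Nat.card C ^ 2) = 1 :=
    ((Nat.Prime.coprime_iff_not_dvd hp.out).2 h.not_dvd_C).pow_right 2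
  exact Nat.ModEq.cancel_left_of_coprime hc e7.modEq

theorem GlSetup.exists_corr_left (h : GlSetup p A ι) (β : IrrCharacter C) :
    ∃ χ : IrrCharacter G, Inv A χ.1 ∧ ¬ p ∣ mult (fun c => χ.1 (ι c)) β.1 := by
  classical
  by_contra hcon
  push Not at hcon
  have h1 := h.sum_inv_mult_mul β β
  rw [if_pos rfl] at h1
  have h2 : p ∣ ∑ χ ∈ Finset.univ.filter (fun χ : IrrCharacter G => Inv A χ.1),
      mult (fun c => χ.1 (ι c)) β.1 * mult (fun c => χ.1 (ι c)) β.1 :=
    Finset.dvd_sum fun χ hχ => (hcon χ (Finset.mem_filter.1 hχ).2).mul_right _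
  exact hp.out.one_lt.ne' (Nat.dvd_one.1 ((h1.dvd_iff (dvd_refl p)).1 h2))

theorem GlSetup.mult_mul_modEq (h : GlSetup p A ι) (χ : IrrCharacter G) (hχ : Inv A χ.1)
    (β γ : IrrCharacter C) [Decidable (β = γ)] (hβ : ¬ p ∣ mult (fun c => χ.1 (ι c)) β.1) :
    mult (fun c => χ.1 (ι c)) β.1 * mult (fun c => χ.1 (ι c)) γ.1 ≡
      (if β = γ then 1 else 0) [MOD p] := by
  classical
  have h1 := h.sum_inv_mult_mul β γ
  rw [← Finset.add_sum_erase _ _ (a := χ) (by simpa using hχ)] at h1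
  have h2 : p ∣ ∑ ψ ∈ (Finset.univ.filter (fun χ : IrrCharacter G => Inv A χ.1)).erase χ,
      mult (fun c => ψ.1 (ι c)) β.1 * mult (fun c => ψ.1 (ι c)) γ.1 := by
    refine Finset.dvd_sum fun ψ hψ => Dvd.dvd.mul_right ?_ _
    by_contra hne
    obtain ⟨h3, h4⟩ := Finset.mem_erase.1 hψ
    exact h3 (h.corr_unique_left ψ χ (Finset.mem_filter.1 h4).2 hχ β hne hβ)
  have h3 := (Nat.ModEq.add_left _ ((Nat.modEq_zero_iff_dvd).2 h2)).symm.trans h1
  rw [add_zero] at h3
  convert h3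

theorem GlSetup.corr_unique_right (h : GlSetup p A ι) (χ : IrrCharacter G) (hχ : Inv A χ.1)
    (β γ : IrrCharacter C) (hβ : ¬ p ∣ mult (fun c => χ.1 (ι c)) β.1)
    (hγ : ¬ p ∣ mult (fun c => χ.1 (ι c)) γ.1) : β = γ := by
  classical
  by_contra hne
  have h1 := h.mult_mul_modEq χ hχ β γ hβ
  rw [if_neg hne, Nat.modEq_zero_iff_dvd] at h1
  rcases (Nat.Prime.dvd_mul hp.out).1 h1 with h2 | h2
  · exact hβ h2
  · exact hγ h2

theorem int_modEq_one_or_neg_one {m : ℕ} (h : m * m ≡ 1 [MOD p]) :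
    (m : ℤ) ≡ 1 [ZMOD p] ∨ (m : ℤ) ≡ -1 [ZMOD p] := by
  have h1 : (p : ℤ) ∣ (1 - m) * (-1 - m) := by
    have := (Nat.modEq_iff_dvd.1 h.symm)
    push_cast at this
    convert this using 1
    ring
  rcases (Int.prime_iff_natAbs_prime.2 (by simpa using hp.out)).dvd_or_dvd h1 with h2 | h2
  · exact Or.inl (Int.modEq_iff_dvd.2 h2)
  · exact Or.inr (Int.modEq_iff_dvd.2 h2)

theorem GlSetup.corr_sq (h : GlSetup p A ι) (χ : IrrCharacter G) (hχ : Inv A χ.1)
    (β : IrrCharacter C) (hβ : ¬ p ∣ mult (fun c => χ.1 (ι c)) β.1) :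
    ((mult (fun c => χ.1 (ι c)) β.1 : ℕ) : ℤ) ≡ 1 [ZMOD p] ∨
      ((mult (fun c => χ.1 (ι c)) β.1 : ℕ) : ℤ) ≡ -1 [ZMOD p] := by
  classical
  have h1 := h.mult_mul_modEq χ hχ β β hβ
  rw [if_pos rfl] at h1
  exact int_modEq_one_or_neg_one h1

end glauberman

section conjug

variable {Γ : Type*} [Group Γ]

/-- Conjugation action of a subgroup `S` normalising `G`. -/
@[reducible] def conjAction (G S : Subgroup Γ) (hnorm : ∀ s ∈ S, ∀ g ∈ G, s * g * s⁻¹ ∈ G) :
    MulDistribMulAction S G where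
  smul s g := ⟨s * g * (s : Γ)⁻¹, hnorm s s.2 g g.2⟩
  one_smul g := Subtype.ext (by
    change ((1 : S) : Γ) * g * ((1 : S) : Γ)⁻¹ = g
    simp)
  mul_smul s t g := Subtype.ext (by
    change ((s * t : S) : Γ) * g * ((s * t : S) : Γ)⁻¹ = s * (t * g * (t : Γ)⁻¹) * (s : Γ)⁻¹
    simp [mul_assoc])
  smul_mul s g h := Subtype.ext (by
    change (s : Γ) * (g * h : G) * (s : Γ)⁻¹ = (s * g * (s : Γ)⁻¹) * (s * h * (s : Γ)⁻¹)
    simp [mul_assoc])
  smul_one s := Subtype.ext (by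
    change (s : Γ) * (1 : G) * (s : Γ)⁻¹ = (1 : G)
    simp)

theorem conjAction_coe (G S : Subgroup Γ) (hnorm : ∀ s ∈ S, ∀ g ∈ G, s * g * s⁻¹ ∈ G)
    (s : S) (g : G) :
    (letI := conjAction G S hnorm; ((s • g : G) : Γ)) = s * g * (s : Γ)⁻¹ := rfl

theorem inv_conjAction_iff (G S : Subgroup Γ) (hnorm : ∀ s ∈ S, ∀ g ∈ G, s * g * s⁻¹ ∈ G)
    (χ : G → ℂ) :
    (letI := conjAction G S hnorm; Inv S χ) ↔
      ∀ s ∈ S, ∀ g g' : G, (g' : Γ) = s * g * s⁻¹ → χ g' = χ g := by
  letI := conjAction G S hnorm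
  constructor
  · intro h s hs g g' e
    have : g' = (⟨s, hs⟩ : S) • g := Subtype.ext e
    rw [this]
    exact h _ _
  · intro h s g
    exact h s s.2 g _ rfl

theorem conjAction_fix (G S : Subgroup Γ) (hnorm : ∀ s ∈ S, ∀ g ∈ G, s * g * s⁻¹ ∈ G)
    (C : Subgroup Γ) (hC : C = G ⊓ Subgroup.centralizer (S : Set Γ)) (hCG : C ≤ G) (g : G) :
    (letI := conjAction G S hnorm;
      (∃ c, Subgroup.inclusion hCG c = g) ↔ ∀ a : S, a • g = g) := by
  letI := conjAction G S hnorm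
  constructor
  · rintro ⟨c, rfl⟩ a
    have hc : (c : Γ) ∈ Subgroup.centralizer (S : Set Γ) := (hC ▸ c.2 : (c : Γ) ∈ G ⊓ _).2
    apply Subtype.ext
    change (a : Γ) * c * (a : Γ)⁻¹ = c
    rw [Subgroup.mem_centralizer_iff.1 hc a a.2]
    simp
  · intro h
    refine ⟨⟨g, hC ▸ ⟨g.2, Subgroup.mem_centralizer_iff.2 fun s hs => ?_⟩⟩, rfl⟩
    have : s * g * s⁻¹ = g := congrArg Subtype.val (h ⟨s, hs⟩)
    rw [mul_inv_eq_iff_eq_mul] at this
    exact this

end conjug

end H88
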