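import Mathlib
import Cfsg.Agent.Lib.Glaub.PGroup
import Cfsg.Agent.Lib.Char.Clifford
import Cfsg.Agent.Lib.Char.More
import Cfsg.Agent.Lib.Core.MinNormal

/-!
Coprime action of a solvable group of operators: the number of invariant irreducible characters,
invariant characters above an invariant character of a normal subgroup (abstract form).
-/

set_option autoImplicit false
set_option linter.style.haveILetI false

namespace H88

open Cfsg
open scoped ComplexConjugate

universe u v w

section general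

variable {G K : Type*} [Group G] [Fintype G] [Group K] [Fintype K]

theorem mult_comp_eq_sum (f : K →* G) {α : G → ℂ} (hα : IsCharacter G α) {ψ : K → ℂ}
    (hψ : IsCharacter K ψ) :
    mult (fun k => α (f k)) ψ = ∑ γ : IrrCharacter G, mult α γ.1 * mult (fun k => γ.1 (f k)) ψ := by
  have h1 : (fun k => α (f k)) =
      ∑ γ : IrrCharacter G, (mult α γ.1 : ℂ) • (fun k => γ.1 (f k)) := by
    funext k
    rw [char_eq_sum_mult hα, Finset.sum_apply]
    rfl
  have h2 : (mult (fun k => α (f k)) ψ : ℂ) =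
      ∑ γ : IrrCharacter G, (mult α γ.1 : ℂ) * mult (fun k => γ.1 (f k)) ψ := by
    rw [mult_cast (H6.isCharacter_comp f hα) hψ, h1, H6.classInner_sum_left]
    refine Finset.sum_congr rfl fun γ _ => ?_
    rw [H6.classInner_smul_left, mult_cast (H6.isCharacter_comp f (H6.irr_isCharacter γ.2)) hψ]
  exact_mod_cast h2

theorem mult_comp_equiv (e : K ≃ G) (φ ψ : G → ℂ) :
    mult (fun k => φ (e k)) (fun k => ψ (e k)) = mult φ ψ := by
  rw [mult, mult, H6.classInner_comp_equiv e]

/-- The ramification index divides the group order. -/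
theorem mult_dvd_card_of_normal_range (j : K →* G) (hj : Function.Injective j)
    [hn : j.range.Normal] {χ : G → ℂ} (hχ : IsIrrCharacter G χ) {θ : K → ℂ}
    (hθ : IsIrrCharacter K θ) (h : mult (fun k => χ (j k)) θ ≠ 0) :
    mult (fun k => χ (j k)) θ ∣ Nat.card G := by
  classical
  let e := MonoidHom.ofInjective hj
  have hθ' : IsIrrCharacter j.range (fun n => θ (e.symm n)) := H6.isIrrCharacter_comp_equiv e.symm hθ
  have hres : IsCharacter K (fun k => χ (j k)) := H6.isCharacter_comp j (H6.irr_isCharacter hχ)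
  have h1 : classInner (fun n : j.range => χ n) (fun n => θ (e.symm n)) =
      (mult (fun k => χ (j k)) θ : ℂ) := by
    rw [mult_cast hres (H6.irr_isCharacter hθ), ← H6.classInner_comp_equiv e.toEquiv]
    congr 1
    funext k
    simp
  have h2 := H7.clifford_degree hχ hθ' (by rw [h1]; exact_mod_cast h)
  obtain ⟨n, -, hn1, hn2⟩ := H6.irr_one_dvd_card hχ
  obtain ⟨m, hm⟩ := H6.char_one_nat (H6.irr_isCharacter hθ')
  rw [h1, hn1, hm] at h2
  have h3 : n = mult (fun k => χ (j k)) θ * (H7.inertia (fun n => θ (e.symm n))).index * m := by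
    exact_mod_cast h2
  have h4 : mult (fun k => χ (j k)) θ ∣ n := ⟨_, h3.trans (mul_assoc _ _ _)⟩
  exact h4.trans hn2

omit [Fintype G] [Fintype K] in
/-- Irreducible characters of isomorphic groups. -/
noncomputable def irrEquiv (e : K ≃* G) : IrrCharacter G ≃ IrrCharacter K where
  toFun χ := ⟨fun k => χ.1 (e k), H6.isIrrCharacter_comp_equiv e χ.2⟩
  invFun β := ⟨fun g => β.1 (e.symm g), H6.isIrrCharacter_comp_equiv e.symm β.2⟩
  left_inv χ := Subtype.ext (funext fun g => by simp)
  right_inv β := Subtype.ext (funext fun g => by simp)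

theorem exists_irr_over_hom (j : K →* G) (hj : Function.Injective j) {θ : K → ℂ}
    (hθ : IsIrrCharacter K θ) :
    ∃ χ : IrrCharacter G, classInner (fun k => χ.1 (j k)) θ ≠ 0 := by
  classical
  let e := MonoidHom.ofInjective hj
  obtain ⟨χ, hχ, h⟩ := H7.exists_irr_over j.range (θ := fun n => θ (e.symm n))
    (by simpa using H6.irr_one_ne_zero hθ)
  refine ⟨⟨χ, hχ⟩, ?_⟩
  rw [← H6.classInner_comp_equiv e.toEquiv] at h
  convert h using 2
  · funext k
    rfl
  · funext k
    simp

end general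

section normalT

variable {p : ℕ} [hp : Fact p.Prime] {A G : Type*} [Group A] [Group G] [Fintype G]
  [MulDistribMulAction A G] {T : Subgroup A} [hT : T.Normal]
  [Fintype (FixedPoints.subgroup T G)]

omit hp [Fintype G] hT [Fintype (FixedPoints.subgroup T G)] in
theorem glSetup_fixedPoints (hTp : IsPGroup p T) (hG : ¬ p ∣ Nat.card G) :
    GlSetup p T (FixedPoints.subgroup T G).subtype :=
  ⟨hTp, hG, Subgroup.subtype_injective _, fun g =>
    ⟨fun ⟨c, hc⟩ => hc ▸ c.2, fun h => ⟨⟨g, h⟩, rfl⟩⟩⟩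

omit [Fintype G] [Fintype (FixedPoints.subgroup T G)] in
theorem coe_mk_smul (a : A) (d : FixedPoints.subgroup T G) :
    (((a : A ⧸ T) • d : FixedPoints.subgroup T G) : G) = a • (d : G) := rfl

omit [Fintype G] hT [Fintype (FixedPoints.subgroup T G)] in
theorem Inv.subgroup {χ : G → ℂ} (h : Inv A χ) (T : Subgroup A) : Inv T χ := fun t g => h t g

omit [Fintype G] [Fintype (FixedPoints.subgroup T G)] in
theorem Inv.smul_of_normal {χ : G → ℂ} (h : Inv T χ) (a : A) : Inv T (fun g => χ (a • g)) := by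
  intro t g
  have := h ⟨a * t * a⁻¹, hT.conj_mem _ t.2 a⟩ (a • g)
  change χ ((a * t * a⁻¹) • a • g) = _ at this
  rw [mul_smul, inv_smul_smul, mul_smul] at this
  exact this

omit [Fintype G] in
theorem mult_smul_fixedPoints (a : A) (χ : G → ℂ) (β : FixedPoints.subgroup T G → ℂ) :
    mult (fun c => χ (a • (FixedPoints.subgroup T G).subtype c)) (fun c => β ((a : A ⧸ T) • c)) =
      mult (fun c => χ ((FixedPoints.subgroup T G).subtype c)) β :=
  mult_comp_equiv (MulAction.toPerm (a : A ⧸ T))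
    (fun c => χ ((FixedPoints.subgroup T G).subtype c)) β

theorem corr_inv_right (h : GlSetup p T (FixedPoints.subgroup T G).subtype) (χ : IrrCharacter G)
    (hχ : Inv A χ.1) (β : IrrCharacter (FixedPoints.subgroup T G))
    (hβ : ¬ p ∣ mult (fun c => χ.1 ((FixedPoints.subgroup T G).subtype c)) β.1) :
    Inv (A ⧸ T) β.1 := by
  intro q d
  obtain ⟨a, rfl⟩ := QuotientGroup.mk_surjective q
  have h1 := mult_smul_fixedPoints (T := T) a χ.1 β.1
  simp only [hχ a] at h1
  have := h.corr_unique_right χ (hχ.subgroup T) ⟨_, isIrr_smul β.2 (a : A ⧸ T)⟩ β (by rwa [h1]) hβ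
  exact congrArg (fun γ : IrrCharacter _ => γ.1 d) this

theorem corr_inv_left (h : GlSetup p T (FixedPoints.subgroup T G).subtype) (χ : IrrCharacter G)
    (hχ : Inv T χ.1) (β : IrrCharacter (FixedPoints.subgroup T G)) (hβi : Inv (A ⧸ T) β.1)
    (hβ : ¬ p ∣ mult (fun c => χ.1 ((FixedPoints.subgroup T G).subtype c)) β.1) :
    Inv A χ.1 := by
  intro a g
  have h1 := mult_smul_fixedPoints (T := T) a χ.1 β.1
  simp only [hβi (a : A ⧸ T)] at h1
  have := h.corr_unique_left ⟨_, isIrr_smul χ.2 a⟩ χ (hχ.smul_of_normal a) hχ β (by rwa [h1]) hβ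
  exact congrArg (fun γ : IrrCharacter _ => γ.1 g) this

theorem card_inv_eq_card_inv_fixedPoints (h : GlSetup p T (FixedPoints.subgroup T G).subtype) :
    Nat.card {χ : IrrCharacter G // Inv A χ.1} =
      Nat.card {β : IrrCharacter (FixedPoints.subgroup T G) // Inv (A ⧸ T) β.1} := by
  have ex := fun χ : {χ : IrrCharacter G // Inv A χ.1} => h.exists_corr_right χ.1 (χ.2.subgroup T)
  choose f hf using ex
  refine Nat.card_congr (Equiv.ofBijective (fun χ => ⟨f χ, corr_inv_right h χ.1 χ.2 _ (hf χ)⟩)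
    ⟨fun χ ψ e => ?_, fun β => ?_⟩)
  · have e' : f χ = f ψ := congrArg Subtype.val e
    exact Subtype.ext (h.corr_unique_left χ.1 ψ.1 (χ.2.subgroup T) (ψ.2.subgroup T) (f χ) (hf χ)
      (e' ▸ hf ψ))
  · obtain ⟨χ, hχ, h1⟩ := h.exists_corr_left β.1
    refine ⟨⟨χ, corr_inv_left h χ hχ β.1 β.2 h1⟩, Subtype.ext ?_⟩
    exact h.corr_unique_right χ hχ _ _ (hf ⟨χ, corr_inv_left h χ hχ β.1 β.2 h1⟩) h1

end normalT

theorem exists_normal_pgroup (A : Type*) [Group A] [Finite A] [Nontrivial A]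
    (hs : Group.IsSolvable A) :
    ∃ (T : Subgroup A) (p : ℕ), T.Normal ∧ T ≠ ⊥ ∧ p.Prime ∧ p ∣ Nat.card A ∧ IsPGroup p T := by
  obtain ⟨T, hT, -, -, p, hp, hd, -, hTp⟩ := H3.exists_normal_elementary_le (⊤ : Subgroup A)
    top_ne_bot inferInstance
  exact ⟨T, p, hT.1, hT.2, hp, hd.trans (Subgroup.card_subgroup_dvd_card T), hTp⟩

private theorem card_inv_irr_aux (n : ℕ) : ∀ (A : Type v) (G : Type u) [Group A] [Finite A]
    [Group G] [Finite G] [MulDistribMulAction A G], Nat.card A = n → Group.IsSolvable A →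
    (Nat.card G).Coprime (Nat.card A) → ∀ (C : Type w) [Group C] (ι : C →* G),
    Function.Injective ι → (∀ g, (∃ c, ι c = g) ↔ ∀ a : A, a • g = g) →
    Nat.card {χ : IrrCharacter G // Inv A χ.1} = Nat.card (IrrCharacter C) := by
  induction n using Nat.strong_induction_on with
  | _ n ih =>
  intro A G _ _ _ _ _ hn hs hcop C _ ι hι hfix
  rcases subsingleton_or_nontrivial A with hA | hA
  · have hb : Function.Bijective ι :=
      ⟨hι, fun g => (hfix g).2 fun a => by rw [Subsingleton.elim a 1, one_smul]⟩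
    refine Nat.card_congr ((Equiv.subtypeUnivEquiv fun χ a g => ?_).trans
      (irrEquiv (MulEquiv.ofBijective ι hb)))
    rw [Subsingleton.elim a 1, one_smul]
  obtain ⟨T, p, hT, hT0, hp, hpA, hTp⟩ := exists_normal_pgroup A hs
  haveI : Fact p.Prime := ⟨hp⟩
  haveI := Fintype.ofFinite G
  haveI := Fintype.ofFinite (FixedPoints.subgroup T G)
  have hpG : ¬ p ∣ Nat.card G := fun h =>
    hp.one_lt.ne' (Nat.eq_one_of_dvd_coprimes hcop h hpA)
  rw [card_inv_eq_card_inv_fixedPoints (glSetup_fixedPoints hTp hpG)]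
  refine ih _ (hn ▸ H3.card_quotient_lt T hT0) (A ⧸ T) (FixedPoints.subgroup T G) rfl inferInstance
    ((hcop.of_dvd_left (Subgroup.card_subgroup_dvd_card _)).of_dvd_right
      (Subgroup.card_quotient_dvd_card T)) C
    (ι.codRestrict _ fun c t => (hfix _).1 ⟨c, rfl⟩ t) (fun a b e => hι (congrArg Subtype.val e)) ?_
  intro d
  constructor
  · rintro ⟨c, rfl⟩ q
    obtain ⟨a, rfl⟩ := QuotientGroup.mk_surjective q
    exact Subtype.ext ((hfix _).1 ⟨c, rfl⟩ a)
  · intro h
    obtain ⟨c, hc⟩ := (hfix d).2 fun a => congrArg Subtype.val (h a)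
    exact ⟨c, Subtype.ext hc⟩

/-- For a coprime action of a solvable group, the number of invariant irreducible characters is
the number of irreducible characters of the fixed point subgroup. -/
theorem card_inv_irr {A G C : Type*} [Group A] [Finite A] [Group G] [Finite G]
    [MulDistribMulAction A G] [Group C] (hs : Group.IsSolvable A)
    (hcop : (Nat.card G).Coprime (Nat.card A)) (ι : C →* G) (hι : Function.Injective ι)
    (hfix : ∀ g, (∃ c, ι c = g) ↔ ∀ a : A, a • g = g) :
    Nat.card {χ : IrrCharacter G // Inv A χ.1} = Nat.card (IrrCharacter C) :=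
  card_inv_irr_aux _ A G rfl hs hcop C ι hι hfix

/-- Compatibility of the Glauberman correspondences of `G` and of an invariant subgroup. -/
theorem not_dvd_mult_of_corr {p : ℕ} [hp : Fact p.Prime] {T G N D E : Type*} [Group T] [Group G]
    [Fintype G] [Group N] [Fintype N] [Group D] [Fintype D] [Group E] [Fintype E]
    [MulDistribMulAction T G] [MulDistribMulAction T N] {ιD : D →* G} {ιE : E →* N}
    (hG : GlSetup p T ιD) (hN : GlSetup p T ιE) (j : N →* G)
    (hj : ∀ (t : T) n, j (t • n) = t • j n) (j' : E →* D) (hjj : ∀ e, ιD (j' e) = j (ιE e))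
    (χ : IrrCharacter G) (hχ : Inv T χ.1) (β : IrrCharacter D)
    (hβ : ¬ p ∣ mult (fun c => χ.1 (ιD c)) β.1) (θ : IrrCharacter N) (hθ : Inv T θ.1)
    (θ' : IrrCharacter E) (hθ' : ¬ p ∣ mult (fun c => θ.1 (ιE c)) θ'.1) :
    p ∣ mult (fun n => χ.1 (j n)) θ.1 ↔ p ∣ mult (fun e => β.1 (j' e)) θ'.1 := by
  classical
  have hχc := H6.irr_isCharacter χ.2
  have hθ'c := H6.irr_isCharacter θ'.2
  have e1 := mult_comp_eq_sum j' (H6.isCharacter_comp ιD hχc) hθ'c
  have e2 := mult_comp_eq_sum ιE (H6.isCharacter_comp j hχc) hθ'c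
  simp only [hjj] at e1
  rw [← Finset.add_sum_erase _ _ (Finset.mem_univ β)] at e1
  have d1 : p ∣ ∑ γ ∈ Finset.univ.erase β,
      mult (fun x => χ.1 (ιD x)) γ.1 * mult (fun k => γ.1 (j' k)) θ'.1 := by
    refine Finset.dvd_sum fun γ hγ => Dvd.dvd.mul_right ?_ _
    by_contra hne
    exact (Finset.mem_erase.1 hγ).1 (hG.corr_unique_right χ hχ γ β hne hβ)
  have e3 := pdvd_sum_irr_sub (A := T) (G := N) hN.pgroup
    (fun φ => ((mult (fun n => χ.1 (j n)) φ.1 * mult (fun k => φ.1 (ιE k)) θ'.1 : ℕ) : ℂ))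
    (fun t φ => by
      simp only [hN.smul_ι]
      rw [← mult_comp_equiv (MulAction.toPerm t) (fun n => χ.1 (j n)) φ.1]
      simp only [MulAction.toPerm_apply, hj, hχ t])
    (fun φ => isIntegral_natCast' _)
  rw [← Nat.cast_sum, ← Nat.cast_sum, ← e2,
    ← Finset.add_sum_erase _ _ (a := θ) (by simpa using hθ)] at e3
  have d2 : p ∣ ∑ φ ∈ (Finset.univ.filter (fun φ : IrrCharacter N => Inv T φ.1)).erase θ,
      mult (fun n => χ.1 (j n)) φ.1 * mult (fun k => φ.1 (ιE k)) θ'.1 := by
    refine Finset.dvd_sum fun φ hφ => Dvd.dvd.mul_left ?_ _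
    by_contra hne
    obtain ⟨h1, h2⟩ := Finset.mem_erase.1 hφ
    exact h1 (hN.corr_unique_left φ θ (Finset.mem_filter.1 h2).2 hθ θ' hne hθ')
  have e4 := e3.modEq.dvd_iff (dvd_refl p)
  rw [e1, Nat.dvd_add_left d1, Nat.dvd_add_left d2, hp.out.dvd_mul, hp.out.dvd_mul] at e4
  tauto

private theorem exists_inv_over_aux (n : ℕ) : ∀ (A : Type v) (G : Type u) (N : Type w) [Group A]
    [Finite A] [Group G] [Fintype G] [Group N] [Fintype N] [MulDistribMulAction A G]
    [MulDistribMulAction A N], Nat.card A = n → Group.IsSolvable A →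
    (Nat.card G).Coprime (Nat.card A) → ∀ (j : N →* G), Function.Injective j → j.range.Normal →
    (∀ (a : A) x, j (a • x) = a • j x) → ∀ θ : IrrCharacter N, Inv A θ.1 →
    ∃ χ : IrrCharacter G, Inv A χ.1 ∧ classInner (fun x => χ.1 (j x)) θ.1 ≠ 0 := by
  induction n using Nat.strong_induction_on with
  | _ n ih =>
  intro A G N _ _ _ _ _ _ _ _ hn hs hcop j hj hjn hje θ hθ
  rcases subsingleton_or_nontrivial A with hA | hA
  · obtain ⟨χ, hχ⟩ := exists_irr_over_hom j hj θ.2
    exact ⟨χ, fun a g => by rw [Subsingleton.elim a 1, one_smul], hχ⟩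
  obtain ⟨T, p, hT, hT0, hp, hpA, hTp⟩ := exists_normal_pgroup A hs
  haveI : Fact p.Prime := ⟨hp⟩
  haveI := Fintype.ofFinite (FixedPoints.subgroup T G)
  haveI := Fintype.ofFinite (FixedPoints.subgroup T N)
  have hpG : ¬ p ∣ Nat.card G := fun h =>
    hp.one_lt.ne' (Nat.eq_one_of_dvd_coprimes hcop h hpA)
  have hpN : ¬ p ∣ Nat.card N := fun h => hpG (h.trans (Subgroup.card_dvd_of_injective j hj))
  have hG := glSetup_fixedPoints (G := G) hTp hpG
  have hN := glSetup_fixedPoints (G := N) hTp hpN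
  let j' : FixedPoints.subgroup T N →* FixedPoints.subgroup T G :=
    (j.comp (FixedPoints.subgroup T N).subtype).codRestrict _ fun e t => by
      change (t : A) • j e = j e
      rw [← hje]
      exact congrArg j (e.2 t)
  have hj' : Function.Injective j' := fun a b e => Subtype.ext (hj (congrArg Subtype.val e))
  have hj'n : j'.range.Normal := ⟨by
    rintro _ ⟨e, rfl⟩ d
    obtain ⟨x, hx⟩ := hjn.conj_mem (j e) ⟨e, rfl⟩ d
    refine ⟨⟨x, fun t => hj ?_⟩, Subtype.ext hx⟩
    change j ((t : A) • x) = j x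
    have h1 : (t : A) • (d : G) = d := d.2 t
    have h2 : (t : A) • (e : N) = e := e.2 t
    rw [hje, hx, smul_mul', smul_mul', smul_inv', h1, ← hje, h2]⟩
  obtain ⟨θ', hθ'⟩ := hN.exists_corr_right θ (hθ.subgroup T)
  obtain ⟨β, hβ, hβθ⟩ := ih _ (hn ▸ H3.card_quotient_lt T hT0) (A ⧸ T) (FixedPoints.subgroup T G)
    (FixedPoints.subgroup T N) rfl inferInstance
    ((hcop.of_dvd_left (Subgroup.card_subgroup_dvd_card _)).of_dvd_right
      (Subgroup.card_quotient_dvd_card T)) j' hj' hj'n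
    (fun q x => by
      obtain ⟨a, rfl⟩ := QuotientGroup.mk_surjective q
      exact Subtype.ext (hje a x)) θ' (corr_inv_right hN θ hθ θ' hθ')
  obtain ⟨χ, hχ, hχβ⟩ := hG.exists_corr_left β
  refine ⟨χ, corr_inv_left hG χ hχ β hβ hχβ, ?_⟩
  have key := not_dvd_mult_of_corr hG hN j (fun t x => hje t x) j' (fun e => rfl) χ hχ β hχβ θ
    (hθ.subgroup T) θ' hθ'
  have hb : mult (fun e => β.1 (j' e)) θ'.1 ≠ 0 :=
    (mult_ne_zero_iff (H6.isCharacter_comp j' (H6.irr_isCharacter β.2))
      (H6.irr_isCharacter θ'.2)).2 hβθ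
  have hd := mult_dvd_card_of_normal_range j' hj' β.2 θ'.2 hb
  rw [← mult_ne_zero_iff (H6.isCharacter_comp j (H6.irr_isCharacter χ.2)) (H6.irr_isCharacter θ.2)]
  intro h0
  exact hG.not_dvd_C ((key.1 (h0 ▸ dvd_zero p)).trans hd)

/-- For a coprime action of a solvable group, an invariant irreducible character of an invariant
normal subgroup lies under an invariant irreducible character. -/
theorem exists_inv_over {A G N : Type*} [Group A] [Finite A] [Group G] [Fintype G] [Group N]
    [Fintype N] [MulDistribMulAction A G] [MulDistribMulAction A N] (hs : Group.IsSolvable A)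
    (hcop : (Nat.card G).Coprime (Nat.card A)) (j : N →* G) (hj : Function.Injective j)
    (hjn : j.range.Normal) (hje : ∀ (a : A) x, j (a • x) = a • j x) (θ : IrrCharacter N)
    (hθ : Inv A θ.1) :
    ∃ χ : IrrCharacter G, Inv A χ.1 ∧ classInner (fun x => χ.1 (j x)) θ.1 ≠ 0 :=
  exists_inv_over_aux _ A G N rfl hs hcop j hj hjn hje θ hθ

end H88
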