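import Mathlib
import Cfsg.Agent.Lib.Glaub.Solvable
import Cfsg.Agent.Lib.Core.CoprimeBasic
import Cfsg.Agent.Lib.Char.ExtLinear

/-!
Glauberman's lemma for two compatible permutation actions; invariant constituents below, and above
a normal subgroup with solvable quotient.
-/

set_option autoImplicit false
set_option linter.style.haveILetI false

namespace H88

open Cfsg
open scoped ComplexConjugate

universe u v w

/-- Glauberman's lemma for two groups acting on the same finite set. -/
theorem exists_fixed_of_perm {A X Ω : Type*} [Group A] [Group X] [Finite A] [Finite X] [Finite Ω]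
    [MulAction A Ω] [MulAction X Ω]
    (hn : ∀ (a : A) (x : X), ∃ x' : X, ∀ ω : Ω, a • x • ω = x' • a • ω)
    (N : Subgroup X) [N.Normal] (hN : ∀ n ∈ N, ∀ ω : Ω, n • ω = ω)
    (hcop : N.index.Coprime (Nat.card A))
    (hsolv : Group.IsSolvable A ∨ Group.IsSolvable (X ⧸ N)) (ω : Ω)
    (hω : ∀ a : A, ∃ x : X, x • a • ω = ω) : ∃ x : X, ∀ a : A, a • x • ω = x • ω := by
  classical
  let α := MulAction.toPermHom A Ω
  let γ := MulAction.toPermHom X Ω
  have hNγ : N ≤ γ.ker := fun n hn => Equiv.ext (hN n hn)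
  let γ' : X ⧸ N →* Equiv.Perm Ω := QuotientGroup.lift N γ hNγ
  have hr : γ'.range = γ.range := by
    ext s
    constructor
    · rintro ⟨q, rfl⟩
      obtain ⟨x, rfl⟩ := QuotientGroup.mk_surjective q
      exact ⟨x, rfl⟩
    · rintro ⟨x, rfl⟩
      exact ⟨(x : X ⧸ N), rfl⟩
  have hAK : α.range ≤ Subgroup.normalizer (γ.range : Set (Equiv.Perm Ω)) := by
    rintro _ ⟨a, rfl⟩
    refine Subgroup.mem_normalizer_fintype ?_
    rintro _ ⟨x, rfl⟩
    obtain ⟨x', hx'⟩ := hn a x
    refine ⟨x', Equiv.ext fun y => ?_⟩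
    have := hx' (a⁻¹ • y)
    rw [smul_inv_smul] at this
    rw [← map_inv]
    exact this.symm
  have hc : (Nat.card α.range).Coprime (Nat.card γ.range) := by
    rw [← hr]
    exact Nat.Coprime.coprime_dvd_left (Subgroup.card_range_dvd α)
      (Nat.Coprime.coprime_dvd_right (Subgroup.card_range_dvd γ') hcop.symm)
  have hs : Group.IsSolvable α.range ∨ Group.IsSolvable γ.range := by
    rcases hsolv with h | h
    · exact Or.inl (Group.isSolvable_of_surjective α.rangeRestrict_surjective)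
    · rw [← hr]
      exact Or.inr (Group.isSolvable_of_surjective γ'.rangeRestrict_surjective)
  obtain ⟨_, ⟨x, rfl⟩, hx⟩ := H2.exists_fixed_point hAK hc hs (X := Ω) (x := ω) (by
    rintro _ ⟨a, rfl⟩
    obtain ⟨x, hx⟩ := hω a
    exact ⟨γ x, ⟨x, rfl⟩, hx⟩)
  exact ⟨x, fun a => hx (α a) ⟨a, rfl⟩⟩

section

variable {A G : Type*} [Group A] [Group G] [MulDistribMulAction A G]

/-- The action of a group of operators on an invariant subgroup. -/
@[reducible] def subAction (K : Subgroup G) (hK : ∀ (a : A), ∀ k ∈ K, a • k ∈ K) :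
    MulDistribMulAction A K where
  smul a k := ⟨a • (k : G), hK a k k.2⟩
  one_smul k := Subtype.ext (one_smul A (k : G))
  mul_smul a b k := Subtype.ext (mul_smul a b (k : G))
  smul_mul a k l := Subtype.ext (smul_mul' a (k : G) l)
  smul_one a := Subtype.ext (smul_one a)

theorem subAction_coe (K : Subgroup G) (hK : ∀ (a : A), ∀ k ∈ K, a • k ∈ K) (a : A) (k : K) :
    (letI := subAction K hK; ((a • k : K) : G)) = a • (k : G) := rfl

theorem smul_mem_commutator (a : A) {g : G} (hg : g ∈ commutator G) : a • g ∈ commutator G := by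
  have := (Subgroup.characteristic_iff_map_le.1 (inferInstance : (commutator G).Characteristic))
    (MulDistribMulAction.toMulEquiv G a)
  exact this ⟨g, hg, rfl⟩

end

/-- The linear characters of `G / K` act on the irreducible characters of `G`. -/
@[reducible] noncomputable def homAction {G : Type*} [Group G] [Finite G] (K : Subgroup G)
    [K.Normal] : MulAction (G ⧸ K →* ℂˣ) (IrrCharacter G) where
  smul lam χ := ⟨fun g => χ.1 g * (lam (g : G ⧸ K) : ℂ),
    H6.isIrrCharacter_mul_hom χ.2 (lam.comp (QuotientGroup.mk' K))⟩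
  one_smul χ := Subtype.ext (funext fun g => by
    change χ.1 g * (((1 : G ⧸ K →* ℂˣ) (g : G ⧸ K) : ℂˣ) : ℂ) = _
    simp)
  mul_smul a b χ := Subtype.ext (funext fun g => by
    change χ.1 g * (((a * b : G ⧸ K →* ℂˣ) (g : G ⧸ K) : ℂˣ) : ℂ) =
      χ.1 g * (b (g : G ⧸ K) : ℂ) * (a (g : G ⧸ K) : ℂ)
    simp only [MonoidHom.mul_apply, Units.val_mul]
    ring)

open scoped commutatorElement in
theorem quotient_comm {G : Type*} [Group G] (K : Subgroup G) [K.Normal] (hK : commutator G ≤ K)
    (a b : G ⧸ K) : a * b = b * a := by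
  obtain ⟨a, rfl⟩ := QuotientGroup.mk_surjective a
  obtain ⟨b, rfl⟩ := QuotientGroup.mk_surjective b
  rw [← QuotientGroup.mk_mul, ← QuotientGroup.mk_mul, QuotientGroup.eq]
  apply hK
  have : (a * b)⁻¹ * (b * a) = ⁅b⁻¹, a⁻¹⁆ := by
    rw [commutatorElement_def]; group
  rw [this]
  exact Subgroup.commutator_mem_commutator (Subgroup.mem_top _) (Subgroup.mem_top _)

theorem sum_hom_eq_zero {Q : Type*} [Group Q] [Finite Q] [Fintype (Q →* ℂˣ)]
    (hQ : ∀ a b : Q, a * b = b * a) {q : Q} (hq : q ≠ 1) : ∑ lam : Q →* ℂˣ, (lam q : ℂ) = 0 := by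
  have h := H6.sum_irr_one_mul hq
  rw [← (Equiv.ofBijective _ (H6.irrOfHom_bijective_of_comm hQ)).sum_comp] at h
  simpa [H6.irrOfHom_apply] using h

/-- If `G / K` is abelian, irreducible characters of `G` with a common constituent on `K` differ
by a linear character of `G / K`. -/
theorem exists_hom_of_inner_res {G : Type*} [Group G] [Fintype G] (K : Subgroup G) [K.Normal]
    [Fintype K] (hK : commutator G ≤ K) {χ ψ : G → ℂ} (hχ : IsIrrCharacter G χ)
    (hψ : IsIrrCharacter G ψ) (h : classInner (fun k : K => χ k) (fun k : K => ψ k) ≠ 0) :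
    ∃ lam : G ⧸ K →* ℂˣ, ψ = fun g => χ g * (lam (g : G ⧸ K) : ℂ) := by
  classical
  haveI : Fintype (G ⧸ K →* ℂˣ) := Fintype.ofFinite _
  have hQ := quotient_comm K hK
  by_contra hcon
  have h0 : ∀ lam : G ⧸ K →* ℂˣ, classInner (fun g => χ g * (lam (g : G ⧸ K) : ℂ)) ψ = 0 := by
    intro lam
    exact H6.irr_inner_ne (H6.isIrrCharacter_mul_hom hχ (lam.comp (QuotientGroup.mk' K))) hψ
      (fun e => hcon ⟨lam, e.symm⟩)
  have h1 : ∑ lam : G ⧸ K →* ℂˣ, ∑ g : G, χ g * (lam (g : G ⧸ K) : ℂ) * conj (ψ g) = 0 :=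
    Finset.sum_eq_zero fun lam _ => by
      rw [← H6.card_mul_classInner (fun g => χ g * (lam (g : G ⧸ K) : ℂ)) ψ, h0, mul_zero]
  rw [Finset.sum_comm] at h1
  have h2 : ∀ g : G, ∑ lam : G ⧸ K →* ℂˣ, χ g * (lam (g : G ⧸ K) : ℂ) * conj (ψ g) =
      if g ∈ K then (Fintype.card (G ⧸ K →* ℂˣ) : ℂ) * (χ g * conj (ψ g)) else 0 := by
    intro g
    rw [← Finset.sum_mul, ← Finset.mul_sum]
    split_ifs with hg
    · rw [(QuotientGroup.eq_one_iff g).2 hg]
      simp
      ring
    · rw [sum_hom_eq_zero hQ (fun e => hg ((QuotientGroup.eq_one_iff g).1 e))]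
      simp
  simp only [h2] at h1
  rw [← Finset.sum_filter, Finset.sum_subtype (p := fun g => g ∈ K) _ (by simp),
    ← Finset.mul_sum] at h1
  rcases mul_eq_zero.1 h1 with h3 | h3
  · exact Fintype.card_ne_zero (by exact_mod_cast h3)
  · apply h
    rw [H6.classInner_def, h3, mul_zero]

section

variable {A G : Type*} [Group A] [Finite A] [Group G] [Fintype G] [MulDistribMulAction A G]

/-- Invariant character above an invariant character, abelian quotient. -/
theorem exists_inv_over_of_comm (K : Subgroup G) [K.Normal] [Fintype K] (hK : commutator G ≤ K)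
    (hKA : ∀ (a : A), ∀ k ∈ K, a • k ∈ K) (hcop : K.index.Coprime (Nat.card A))
    {φ : K → ℂ} (hφ : IsIrrCharacter K φ)
    (hinv : ∀ (a : A) (k : K), φ ⟨a • (k : G), hKA a k k.2⟩ = φ k) :
    ∃ χ : IrrCharacter G, Inv A χ.1 ∧ classInner (fun k : K => χ.1 k) φ ≠ 0 := by
  classical
  letI := irrAction A G
  letI := homAction (G := G) K
  letI := subAction K hKA
  have hQ := quotient_comm K hK
  obtain ⟨χ, hχ, hχφ⟩ := H7.exists_irr_over K (θ := φ) (H6.irr_one_ne_zero hφ)
  obtain ⟨lam, hlam⟩ := exists_fixed_of_perm (A := A) (X := G ⧸ K →* ℂˣ) (Ω := IrrCharacter G)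
    (fun a lam => ⟨QuotientGroup.lift K ((lam.comp (QuotientGroup.mk' K)).comp
        (MulDistribMulAction.toMonoidHom G a⁻¹)) (fun k hk => by
          change lam ((a⁻¹ • k : G) : G ⧸ K) = 1
          rw [(QuotientGroup.eq_one_iff _).2 (hKA a⁻¹ k hk), map_one]),
      fun ω => rfl⟩) ⊥ (fun n hn ω => by rw [Subgroup.mem_bot.1 hn, one_smul])
    (by rw [Subgroup.index_bot, H6.card_hom_of_comm hQ]; exact hcop)
    (Or.inr (Group.isSolvable_of_comm fun a b => mul_comm a b)) ⟨χ, hχ⟩ (by
      intro a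
      have h1 : classInner (fun k : K => χ (a⁻¹ • (k : G))) φ ≠ 0 := by
        have := classInner_smul_smul (a⁻¹ : A) (fun k : K => χ k) φ
        rw [← this] at hχφ
        convert hχφ using 2
        · funext k
          rfl
        · funext k
          exact (hinv a⁻¹ k).symm
      have hχ' := isIrr_smul hχ (a⁻¹ : A)
      obtain ⟨lam, hlam⟩ := exists_hom_of_inner_res K hK hχ' hχ
        (H7.char_inner_ne_zero_of_common (H6.isCharacter_restrict K (H6.irr_isCharacter hχ'))
          (H6.isCharacter_restrict K (H6.irr_isCharacter hχ)) hφ h1 hχφ)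
      exact ⟨lam, Subtype.ext hlam.symm⟩)
  refine ⟨lam • (⟨χ, hχ⟩ : IrrCharacter G), (irrAction_fixed_iff _).2 hlam, ?_⟩
  convert hχφ using 2
  funext k
  change χ k * (lam ((k : G) : G ⧸ K) : ℂ) = χ k
  rw [(QuotientGroup.eq_one_iff _).2 k.2]
  simp

end

private theorem exists_inv_over_solv_aux (n : ℕ) : ∀ (A : Type v) (G : Type u) [Group A] [Finite A]
    [Group G] [Fintype G] [MulDistribMulAction A G], Nat.card G = n →
    ∀ (N : Type w) [Group N] [Fintype N] [MulDistribMulAction A N] (j : N →* G),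
    Function.Injective j → ∀ [j.range.Normal], (∀ (a : A) x, j (a • x) = a • j x) →
    j.range.index.Coprime (Nat.card A) → Group.IsSolvable (G ⧸ j.range) →
    ∀ θ : IrrCharacter N, Inv A θ.1 →
    ∃ χ : IrrCharacter G, Inv A χ.1 ∧ classInner (fun x => χ.1 (j x)) θ.1 ≠ 0 := by
  induction n using Nat.strong_induction_on with
  | _ n ih =>
  intro A G _ _ _ _ _ hn N _ _ _ j hj hjn hje hcop hs θ hθ
  classical
  by_cases htop : j.range = ⊤
  · let e : N ≃* G := MulEquiv.ofBijective j ⟨hj, MonoidHom.range_eq_top.1 htop⟩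
    refine ⟨(irrEquiv e.symm) θ, fun a g => ?_, ?_⟩
    · obtain ⟨x, rfl⟩ := e.surjective g
      change θ.1 (e.symm (a • j x)) = θ.1 (e.symm (e x))
      rw [← hje, e.symm_apply_apply]
      change θ.1 (e.symm (e (a • x))) = _
      rw [e.symm_apply_apply, hθ]
    · have : (fun x => ((irrEquiv e.symm) θ).1 (j x)) = θ.1 := by
        funext x
        change θ.1 (e.symm (e x)) = _
        rw [e.symm_apply_apply]
      rw [this, H6.irr_inner_self θ.2]
      exact one_ne_zero
  let K : Subgroup G := j.range ⊔ commutator G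
  have hKA : ∀ (a : A), ∀ k ∈ K, a • k ∈ K := by
    intro a k hk
    obtain ⟨_, ⟨x, rfl⟩, c, hc, rfl⟩ := Subgroup.mem_sup_of_normal_right.1 hk
    rw [smul_mul', ← hje]
    exact K.mul_mem (Subgroup.mem_sup_left ⟨_, rfl⟩)
      (Subgroup.mem_sup_right (smul_mem_commutator a hc))
  have hKt : K ≠ ⊤ := by
    intro hK
    haveI : Nontrivial (G ⧸ j.range) := QuotientGroup.nontrivial_iff.2 htop
    have h1 := Group.IsSolvable.commutator_lt_top_of_nontrivial (G ⧸ j.range)
    apply h1.ne
    have h2 := congrArg (Subgroup.map (QuotientGroup.mk' j.range)) hK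
    rw [Subgroup.map_sup, QuotientGroup.map_mk'_self, bot_sup_eq, commutator_def,
      Subgroup.map_commutator, Subgroup.map_top_of_surjective _ (QuotientGroup.mk'_surjective _)]
      at h2
    exact h2
  letI := subAction K hKA
  haveI : Fintype K := Fintype.ofFinite _
  let j' : N →* K := j.codRestrict K fun x => Subgroup.mem_sup_left ⟨x, rfl⟩
  have hr : j'.range = j.range.subgroupOf K := by
    ext k
    constructor
    · rintro ⟨x, rfl⟩
      exact ⟨x, rfl⟩
    · rintro ⟨x, hx⟩
      exact ⟨x, Subtype.ext hx⟩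
  haveI hn' : j'.range.Normal := by rw [hr]; infer_instance
  have hs' : Group.IsSolvable (K ⧸ j'.range) := by
    refine Group.isSolvable_of_isSolvable_injective (G' := G ⧸ j.range) (f := QuotientGroup.lift j'.range
      ((QuotientGroup.mk' j.range).comp K.subtype) ?_) ?_
    · rintro _ ⟨x, rfl⟩
      exact (QuotientGroup.eq_one_iff _).2 ⟨x, rfl⟩
    · rw [injective_iff_map_eq_one]
      intro q hq
      obtain ⟨k, rfl⟩ := QuotientGroup.mk_surjective q
      have : (k : G) ∈ j.range := (QuotientGroup.eq_one_iff _).1 hq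
      rw [QuotientGroup.eq_one_iff, hr]
      exact this
  obtain ⟨φ, hφ, hφθ⟩ := ih (Nat.card K) (hn ▸ H3.card_lt_of_ne_top K hKt) A K rfl N j'
    (fun x y h => hj (congrArg Subtype.val h)) (fun a x => Subtype.ext (hje a x))
    (by
      rw [hr]
      exact Nat.Coprime.coprime_dvd_left (Subgroup.relIndex_dvd_index_of_le le_sup_left) hcop)
    hs' θ hθ
  obtain ⟨χ, hχ, hχφ⟩ := exists_inv_over_of_comm K le_sup_right hKA
    (Nat.Coprime.coprime_dvd_left (Subgroup.index_dvd_of_le le_sup_left) hcop) φ.2 hφ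
  exact ⟨χ, hχ, H7.inner_comp_ne_zero_of_constituent j'
    (H6.isCharacter_restrict K (H6.irr_isCharacter χ.2)) φ.2 hχφ (H6.irr_isCharacter θ.2) hφθ⟩

/-- An invariant irreducible character of an invariant normal subgroup with solvable quotient of
order prime to `|A|` lies under an invariant irreducible character. -/
theorem exists_inv_over_solv {A G N : Type*} [Group A] [Finite A] [Group G] [Fintype G] [Group N]
    [Fintype N] [MulDistribMulAction A G] [MulDistribMulAction A N] (j : N →* G)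
    (hj : Function.Injective j) [j.range.Normal] (hje : ∀ (a : A) x, j (a • x) = a • j x)
    (hcop : j.range.index.Coprime (Nat.card A)) (hs : Group.IsSolvable (G ⧸ j.range))
    (θ : IrrCharacter N) (hθ : Inv A θ.1) :
    ∃ χ : IrrCharacter G, Inv A χ.1 ∧ classInner (fun x => χ.1 (j x)) θ.1 ≠ 0 :=
  exists_inv_over_solv_aux _ A G rfl N j hj hje hcop hs θ hθ

/-- An invariant irreducible character has an invariant constituent on an invariant normal
subgroup of index prime to `|A|`. -/
theorem exists_inv_under {A G : Type*} [Group A] [Finite A] [Group G] [Fintype G]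
    [MulDistribMulAction A G] (N : Subgroup G) [hN : N.Normal] [Fintype N]
    (hNA : ∀ (a : A), ∀ k ∈ N, a • k ∈ N) (hcop : N.index.Coprime (Nat.card A))
    (hs : Group.IsSolvable A ∨ Group.IsSolvable (G ⧸ N)) {χ : G → ℂ} (hχ : IsIrrCharacter G χ)
    (hinv : Inv A χ) :
    ∃ θ : IrrCharacter N, (∀ (a : A) (k : N), θ.1 ⟨a • (k : G), hNA a k k.2⟩ = θ.1 k) ∧
      classInner (fun k : N => χ k) θ.1 ≠ 0 := by
  classical
  letI := subAction N hNA
  letI := irrAction A N
  letI : MulDistribMulAction G N := MulDistribMulAction.compHom N (MulAut.conjNormal (H := N))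
  letI := irrAction G N
  obtain ⟨θ, hθ, hχθ⟩ := H7.exists_irr_under N (H6.irr_isClassFunction hχ) (H6.irr_one_ne_zero hχ)
  obtain ⟨x, hx⟩ := exists_fixed_of_perm (A := A) (X := G) (Ω := IrrCharacter N)
    (fun a x => ⟨a • x, fun ω => Subtype.ext (funext fun k => by
      change ω.1 (x⁻¹ • a⁻¹ • k) = ω.1 (a⁻¹ • (a • x)⁻¹ • k)
      refine congrArg ω.1 (Subtype.ext ?_)
      change x⁻¹ * (a⁻¹ • (k : G)) * x⁻¹⁻¹ = a⁻¹ • ((a • x)⁻¹ * k * (a • x)⁻¹⁻¹)
      simp [smul_mul', smul_inv'])⟩) N
    (fun n hn ω => Subtype.ext (funext fun k => by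
      change ω.1 (n⁻¹ • k) = ω.1 k
      have := H6.classFun_conj' (H6.irr_isClassFunction ω.2) k ⟨n, hn⟩
      rw [← this]
      refine congrArg ω.1 (Subtype.ext ?_)
      change n⁻¹ * k * n⁻¹⁻¹ = n⁻¹ * k * n
      rw [inv_inv])) hcop hs ⟨θ, hθ⟩ (by
      intro a
      have hθ' := isIrr_smul hθ (a⁻¹ : A)
      have h1 : classInner (fun k : N => χ k) (fun k => θ (a⁻¹ • k)) ≠ 0 := by
        have := classInner_smul_smul (a⁻¹ : A) (fun k : N => χ k) θ
        rw [← this] at hχθ
        convert hχθ using 2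
        funext k
        exact (hinv a⁻¹ k).symm
      obtain ⟨g, hg⟩ := H7.mem_conjOrbit.1
        (H7.mem_conjOrbit_of_inner_res_ne_zero hχ hθ' hθ h1 hχθ)
      refine ⟨g⁻¹, Subtype.ext (funext fun k => ?_)⟩
      change θ (a⁻¹ • g⁻¹⁻¹ • k) = θ k
      rw [inv_inv]
      exact (congrFun hg k).symm)
  refine ⟨x • (⟨θ, hθ⟩ : IrrCharacter N), (irrAction_fixed_iff _).2 hx, ?_⟩
  have := H7.classInner_res_conjChar (N := N) x⁻¹ (H6.irr_isClassFunction hχ) θ
  rw [← this] at hχθ
  exact hχθ

end H88
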