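import Mathlib
import Cfsg.Agent.Lib.Glaub.Over
import Cfsg.Agent.Lib.Char.ExtDeg

/-!
Clifford and Gallagher correspondences combined; the relative Glauberman correspondence for a
`p`-group acting on a group with a normal Sylow `p`-subgroup.
-/

set_option autoImplicit false
set_option linter.style.haveILetI false

namespace H88

open Cfsg
open scoped ComplexConjugate

universe u v w

section cg

variable {L : Type*} [Group L] [Fintype L] {Q T : Subgroup L} [hQ : Q.Normal] [Fintype Q]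
  (hQT : Q ≤ T) {θ : Q → ℂ} (hθ : IsIrrCharacter Q θ) {η : T → ℂ} (hη : IsCharacter T η)
  (hηθ : ∀ q : Q, η ⟨q, hQT q.2⟩ = θ q)

include hθ hηθ in
omit [Fintype L] hQ [Fintype Q] in
theorem cg_res_irr : IsIrrCharacter (Q.subgroupOf T) (fun x : Q.subgroupOf T => η x) := by
  have := H7.isIrr_subgroupOf hQT hθ
  convert this using 2 with x
  exact hηθ ⟨_, x.2⟩

include hθ hη hηθ in
omit [Fintype Q] in
theorem cg_mul_irr (β : IrrCharacter (T ⧸ Q.subgroupOf T)) :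
    IsIrrCharacter T (fun t : T => β.1 t * η t) :=
  H31.gallagher_isIrr (Q.subgroupOf T) hη (cg_res_irr hQT hθ hηθ)
    (H6.isIrrCharacter_comp_surjective (QuotientGroup.mk' _) (QuotientGroup.mk'_surjective _) β.2)
    (fun n hn => by
      change β.1 (n : T ⧸ Q.subgroupOf T) = β.1 ((1 : T) : T ⧸ Q.subgroupOf T)
      rw [(QuotientGroup.eq_one_iff n).2 hn, QuotientGroup.mk_one])

include hθ hηθ in
omit [Fintype L] in
theorem cg_mul_over (β : IrrCharacter (T ⧸ Q.subgroupOf T)) :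
    classInner (fun q : Q => (fun t : T => β.1 t * η t) ⟨q, hQT q.2⟩) θ ≠ 0 := by
  have : (fun q : Q => (fun t : T => β.1 t * η t) ⟨q, hQT q.2⟩) = β.1 1 • θ := by
    funext q
    change β.1 ((⟨q, hQT q.2⟩ : T) : T ⧸ Q.subgroupOf T) * _ = _
    rw [(QuotientGroup.eq_one_iff (⟨q, hQT q.2⟩ : T)).2 q.2, hηθ]
    rfl
  rw [this, H6.classInner_smul_left, H6.irr_inner_self hθ, mul_one]
  exact H6.irr_one_ne_zero β.2

/-- The irreducible character over `θ` attached to a character of `T / Q`. -/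
noncomputable def cgMap (hT : H7.inertia θ ≤ T) (β : IrrCharacter (T ⧸ Q.subgroupOf T)) :
    IrrCharacter L :=
  ⟨indFun T (fun t : T => β.1 t * η t), H7.clifford_corr_isIrr hQT hθ hT
    (cg_mul_irr hQT hθ hη hηθ β) (cg_mul_over hQT hθ hηθ β)⟩

theorem cgMap_coe (hT : H7.inertia θ ≤ T) (β : IrrCharacter (T ⧸ Q.subgroupOf T)) :
    (cgMap hQT hθ hη hηθ hT β).1 = indFun T (fun t : T => β.1 t * η t) := rfl

theorem cgMap_over (hT : H7.inertia θ ≤ T) (β : IrrCharacter (T ⧸ Q.subgroupOf T)) :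
    classInner (fun q : Q => (cgMap hQT hθ hη hηθ hT β).1 q) θ ≠ 0 := by
  rw [cgMap_coe, H7.clifford_corr_mult hQT hθ hT (cg_mul_irr hQT hθ hη hηθ β)
    (cg_mul_over hQT hθ hηθ β)]
  exact cg_mul_over hQT hθ hηθ β

theorem cgMap_injective (hT : H7.inertia θ ≤ T) :
    Function.Injective (cgMap hQT hθ hη hηθ hT) := by
  intro β γ h
  have h1 := H7.clifford_corr_inj hQT hθ hT (cg_mul_irr hQT hθ hη hηθ β)
    (cg_mul_irr hQT hθ hη hηθ γ) (cg_mul_over hQT hθ hηθ β) (cg_mul_over hQT hθ hηθ γ)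
    (congrArg Subtype.val h)
  have hk : ∀ δ : IrrCharacter (T ⧸ Q.subgroupOf T), ∀ n ∈ Q.subgroupOf T,
      δ.1 (QuotientGroup.mk' (Q.subgroupOf T) n) = δ.1 (QuotientGroup.mk' (Q.subgroupOf T) 1) := by
    intro δ n hn
    rw [map_one, QuotientGroup.mk'_apply, (QuotientGroup.eq_one_iff n).2 hn]
  have h2 := H31.gallagher_inj (Q.subgroupOf T) hη (cg_res_irr hQT hθ hηθ)
    (H6.isIrrCharacter_comp_surjective (QuotientGroup.mk' _) (QuotientGroup.mk'_surjective _) β.2)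
    (hk β)
    (H6.isIrrCharacter_comp_surjective (QuotientGroup.mk' _) (QuotientGroup.mk'_surjective _) γ.2)
    (hk γ) h1
  apply Subtype.ext
  funext q
  obtain ⟨t, rfl⟩ := QuotientGroup.mk_surjective q
  exact congrFun h2 t

theorem cgMap_surj (hT : H7.inertia θ ≤ T) (χ : IrrCharacter L)
    (h : classInner (fun q : Q => χ.1 q) θ ≠ 0) : ∃ β, cgMap hQT hθ hη hηθ hT β = χ := by
  classical
  haveI : Fintype (Q.subgroupOf T) := Fintype.ofFinite _
  obtain ⟨ψ, hψ, h1, h2⟩ := H7.clifford_corr_surj hQT hθ hT χ.2 h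
  rw [← h2, ← H7.classInner_res_subgroupOf hQT] at h
  obtain ⟨β, hβ, hβ1, hβ2⟩ := H31.gallagher_surj (Q.subgroupOf T) hη (cg_res_irr hQT hθ hηθ) hψ (by
    convert h using 2
    funext x
    exact hηθ ⟨_, x.2⟩)
  obtain ⟨β', hβ', hβ3⟩ := H6.exists_irr_quotient hβ (Q.subgroupOf T) hβ1
  refine ⟨⟨β', hβ'⟩, Subtype.ext ?_⟩
  rw [cgMap_coe, ← h1, hβ2]
  congr 1
  funext t
  change β' t * η t = β t * η t
  rw [hβ3]

include hθ hη hηθ in
omit [Fintype Q] in
/-- Gallagher's map is an isometry. -/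
theorem cg_inner [Fintype T] [Fintype (T ⧸ Q.subgroupOf T)] {φ : T ⧸ Q.subgroupOf T → ℂ}
    (hφ : IsClassFunction _ φ) (γ : IrrCharacter (T ⧸ Q.subgroupOf T)) :
    classInner (fun t : T => φ t * η t) (fun t : T => γ.1 t * η t) = classInner φ γ.1 := by
  classical
  have h1 : (fun t : T => φ t * η t) = ∑ β : IrrCharacter (T ⧸ Q.subgroupOf T),
      classInner φ β.1 • (fun t : T => β.1 t * η t) := by
    funext t
    rw [H6.classFun_apply_eq_sum_irr hφ, Finset.sum_mul, Finset.sum_apply]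
    exact Finset.sum_congr rfl fun β _ => mul_assoc _ _ _
  rw [h1, H6.classInner_sum_left, Finset.sum_eq_single γ]
  · rw [H6.classInner_smul_left, H6.irr_inner_self (cg_mul_irr hQT hθ hη hηθ γ), mul_one]
  · intro β _ hne
    rw [H6.classInner_smul_left, H6.irr_inner_ne (cg_mul_irr hQT hθ hη hηθ β)
      (cg_mul_irr hQT hθ hη hηθ γ), mul_zero]
    intro h1
    apply hne
    have hk : ∀ δ : IrrCharacter (T ⧸ Q.subgroupOf T), ∀ n ∈ Q.subgroupOf T,
        δ.1 (QuotientGroup.mk' (Q.subgroupOf T) n) =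
          δ.1 (QuotientGroup.mk' (Q.subgroupOf T) 1) := by
      intro δ n hn
      rw [map_one, QuotientGroup.mk'_apply, (QuotientGroup.eq_one_iff n).2 hn]
    have h2 := H31.gallagher_inj (Q.subgroupOf T) hη (cg_res_irr hQT hθ hηθ)
      (H6.isIrrCharacter_comp_surjective (QuotientGroup.mk' _) (QuotientGroup.mk'_surjective _) β.2)
      (hk β)
      (H6.isIrrCharacter_comp_surjective (QuotientGroup.mk' _) (QuotientGroup.mk'_surjective _) γ.2)
      (hk γ) h1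
    apply Subtype.ext
    funext q
    obtain ⟨t, rfl⟩ := QuotientGroup.mk_surjective q
    exact congrFun h2 t
  · intro h
    exact absurd (Finset.mem_univ _) h

include hθ in
/-- Restricting a Clifford-induced character: only the Clifford correspondent matters above `θ`. -/
theorem inner_res_clifford (hT : H7.inertia θ ≤ T) {ψ : T → ℂ} (hψ : IsIrrCharacter T ψ)
    (h : classInner (fun q : Q => ψ ⟨q, hQT q.2⟩) θ ≠ 0) {U : Type*} [Group U] [Fintype U]
    (j : U →* T) (i : Q →* U) (hij : ∀ q : Q, j (i q) = ⟨q, hQT q.2⟩) {κ : U → ℂ}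
    (hκ : IsIrrCharacter U κ) (hκθ : classInner (fun q => κ (i q)) θ ≠ 0) :
    classInner (fun u => indFun T ψ (j u)) κ = classInner (fun u => ψ (j u)) κ := by
  classical
  have hχ := H7.clifford_corr_isIrr hQT hθ hT hψ h
  have h1 := H7.classInner_res_indFun_self hχ
  have hΔ := H6.isCharacter_sub_of_inner_ne_zero
    (H6.isCharacter_restrict T (H6.irr_isCharacter hχ)) hψ (by rw [h1]; exact one_ne_zero)
  have h2 := H7.clifford_corr_mult hQT hθ hT hψ h
  rw [← sub_eq_zero, ← H6.classInner_sub_left]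
  by_contra h3
  have h4 := H7.inner_comp_ne_zero_of_constituent i (H6.isCharacter_comp j hΔ) hκ h3
    (H6.irr_isCharacter hθ) hκθ
  apply h4
  rw [← sub_eq_zero, ← H6.classInner_sub_left] at h2
  rw [← h2]
  congr 1
  funext q
  simp only [hij]
  rfl

end cg

section actions

variable {A K : Type*} [Group A] [Group K] [MulDistribMulAction A K]

/-- The action of a group of operators on the quotient by an invariant normal subgroup. -/
@[reducible] def quotAction (Q : Subgroup K) [Q.Normal] (hQ : ∀ (a : A), ∀ k ∈ Q, a • k ∈ Q) :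
    MulDistribMulAction A (K ⧸ Q) where
  smul a := QuotientGroup.map Q Q (MulDistribMulAction.toMonoidHom K a) (hQ a)
  one_smul x := by
    obtain ⟨k, rfl⟩ := QuotientGroup.mk_surjective x
    exact congrArg QuotientGroup.mk (one_smul A k)
  mul_smul a b x := by
    obtain ⟨k, rfl⟩ := QuotientGroup.mk_surjective x
    exact congrArg QuotientGroup.mk (mul_smul a b k)
  smul_mul a := map_mul (QuotientGroup.map Q Q (MulDistribMulAction.toMonoidHom K a) (hQ a))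
  smul_one a := map_one (QuotientGroup.map Q Q (MulDistribMulAction.toMonoidHom K a) (hQ a))

theorem quotAction_mk (Q : Subgroup K) [Q.Normal] (hQ : ∀ (a : A), ∀ k ∈ Q, a • k ∈ Q) (a : A)
    (k : K) : (letI := quotAction Q hQ; a • (k : K ⧸ Q)) = ((a • k : K) : K ⧸ Q) := rfl

theorem smul_mem_iff_of_inv {T : Subgroup K} (hT : ∀ (a : A), ∀ k ∈ T, a • k ∈ T) (a : A) (k : K) :
    k ∈ T ↔ a • k ∈ T :=
  ⟨hT a k, fun h => by simpa using hT a⁻¹ _ h⟩

theorem indFun_smul_action [Fintype K] {T : Subgroup K} (hT : ∀ (a : A), ∀ k ∈ T, a • k ∈ T)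
    (ψ : T → ℂ) (a : A) (k : K) :
    indFun T ψ (a • k) = indFun T (fun t : T => ψ ⟨a • (t : K), hT a t t.2⟩) k :=
  (H7.indFun_comp_mulEquiv (MulDistribMulAction.toMulEquiv K a) T T (smul_mem_iff_of_inv hT a)
    ψ k).symm

theorem inertia_inv {Q : Subgroup K} [Q.Normal] (hQ : ∀ (a : A), ∀ k ∈ Q, a • k ∈ Q) {θ : Q → ℂ}
    (hθ : ∀ (a : A) (q : Q), θ ⟨a • (q : K), hQ a q q.2⟩ = θ q) (a : A) :
    ∀ k ∈ H7.inertia θ, a • k ∈ H7.inertia θ := by
  intro k hk
  rw [H7.mem_inertia'] at hk ⊢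
  intro n
  have h1 := hk ⟨a⁻¹ • (n : K), hQ a⁻¹ n n.2⟩
  rw [hθ a⁻¹ n, ← hθ a] at h1
  rw [← h1]
  refine congrArg θ (Subtype.ext ?_)
  simp [smul_mul', smul_inv']

theorem exists_fixed_of_not_dvd {p : ℕ} [Fact p.Prime] (hA : IsPGroup p A) {X : Type*}
    [MulAction A X] [Finite X] (s : Set X) (hs : ∀ (a : A), ∀ x ∈ s, a • x ∈ s)
    (h : ¬ p ∣ Nat.card s) : ∃ x ∈ s, ∀ a : A, a • x = x := by
  let S : SubMulAction A X := ⟨s, fun a x hx => hs a x hx⟩
  obtain ⟨x, hx⟩ := hA.nonempty_fixed_point_of_prime_not_dvd_card S h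
  exact ⟨x.1, x.2, fun a => congrArg Subtype.val (hx a)⟩

/-- An invariant coset of an invariant subgroup containing `Q` contains an element fixed
modulo `Q`. -/
theorem exists_fixed_mod_in_coset {p : ℕ} [Fact p.Prime] (hA : IsPGroup p A) [Finite K]
    {Q T : Subgroup K} [Q.Normal] (hQ : ∀ (a : A), ∀ k ∈ Q, a • k ∈ Q) (hp : ¬ p ∣ Q.index)
    (hQT : Q ≤ T) (hT : ∀ (a : A), ∀ k ∈ T, a • k ∈ T) {k : K}
    (hk : ∀ a : A, (a • k) * k⁻¹ ∈ T) :
    ∃ c : K, c * k⁻¹ ∈ T ∧ ∀ a : A, (a • c) * c⁻¹ ∈ Q := by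
  letI := quotAction Q hQ
  let T' := T.map (QuotientGroup.mk' Q)
  have hT' : ∀ x : K, (x : K ⧸ Q) ∈ T' ↔ x ∈ T := fun x => by
    have : T'.comap (QuotientGroup.mk' Q) = T :=
      Subgroup.comap_map_eq_self (by rwa [QuotientGroup.ker_mk'])
    conv_rhs => rw [← this]
    rfl
  obtain ⟨x, hx, hxa⟩ := exists_fixed_of_not_dvd hA {x : K ⧸ Q | x * (k : K ⧸ Q)⁻¹ ∈ T'} (by
    intro a x hx
    obtain ⟨y, rfl⟩ := QuotientGroup.mk_surjective x
    have h1 : y * k⁻¹ ∈ T := (hT' _).1 hx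
    refine (hT' (a • y * k⁻¹)).2 ?_
    have : a • y * k⁻¹ = a • (y * k⁻¹) * (a • k * k⁻¹) := by
      rw [smul_mul', smul_inv']; group
    rw [this]
    exact T.mul_mem (hT a _ h1) (hk a)) (by
    have : Nat.card {x : K ⧸ Q | x * (k : K ⧸ Q)⁻¹ ∈ T'} = Nat.card T' :=
      Nat.card_congr ((Equiv.mulRight (k : K ⧸ Q)⁻¹).subtypeEquiv fun x => Iff.rfl)
    rw [this]
    exact fun h => hp (h.trans (Subgroup.card_subgroup_dvd_card T')))
  obtain ⟨c, rfl⟩ := QuotientGroup.mk_surjective x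
  refine ⟨c, (hT' _).1 hx, fun a => ?_⟩
  rw [← QuotientGroup.eq_one_iff, QuotientGroup.mk_mul, QuotientGroup.mk_inv]
  have : ((a • c : K) : K ⧸ Q) = c := hxa a
  rw [this, mul_inv_cancel]

end actions

/-- A `p`-group `A` acts on `K` with invariant normal Sylow `p`-subgroup `Q`; `j : D → K` is an
equivariant embedding onto the elements fixed modulo `Q`. -/
structure RelSetup (p : ℕ) (A : Type*) {K D : Type*} [Group A] [Group K] [Group D]
    [MulDistribMulAction A K] [MulDistribMulAction A D] (Q : Subgroup K) (j : D →* K) : Prop where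
  pgroup : IsPGroup p A
  qgroup : IsPGroup p Q
  not_dvd : ¬ p ∣ Q.index
  inv : ∀ (a : A), ∀ k ∈ Q, a • k ∈ Q
  inj : Function.Injective j
  equiv : ∀ (a : A) d, j (a • d) = a • j d
  fix : ∀ k, (∃ d, j d = k) ↔ ∀ a : A, (a • k) * k⁻¹ ∈ Q

section rel

variable {p : ℕ} [hp : Fact p.Prime] {A : Type v} {K : Type u} {D : Type w} [Group A] [Group K]
  [Fintype K] [Group D] [Fintype D] [MulDistribMulAction A K] [MulDistribMulAction A D]
  {Q : Subgroup K} [hQ : Q.Normal] {j : D →* K}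

omit hp [Fintype K] [Fintype D] hQ in
theorem RelSetup.bij (h : RelSetup p A Q j) : Function.Bijective (j.subgroupComap Q) := by
  constructor
  · intro x y e
    exact Subtype.ext (h.inj (congrArg Subtype.val e))
  · rintro ⟨q, hq⟩
    obtain ⟨d, rfl⟩ := (h.fix q).2 fun a => Q.mul_mem (h.inv a q hq) (Q.inv_mem hq)
    exact ⟨⟨d, hq⟩, rfl⟩

theorem RelSetup.data [Fintype Q] [Fintype (Q.comap j)] (h : RelSetup p A Q j) {θ : Q → ℂ}
    (hθ : IsIrrCharacter Q θ) (hθi : ∀ (a : A) (q : Q), θ ⟨a • (q : K), h.inv a q q.2⟩ = θ q) :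
    ∃ (X : Type u) (Y : Type w) (_ : Group X) (_ : Fintype X) (_ : Group Y) (_ : Fintype Y)
      (_ : MulDistribMulAction A X) (ι : Y →* X) (Φ : IrrCharacter X → IrrCharacter K)
      (Ψ : IrrCharacter Y → IrrCharacter D), GlSetup p A ι ∧
      (∀ χ : IrrCharacter K, Inv A χ.1 → classInner (fun q : Q => χ.1 q) θ ≠ 0 →
        ∃ β, Inv A β.1 ∧ Φ β = χ) ∧
      (∀ β, Inv A β.1 → Inv A (Φ β).1) ∧
      (∀ ξ : IrrCharacter D, classInner (fun x : Q.comap j => ξ.1 x) (fun x => θ ⟨j x, x.2⟩) ≠ 0 →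
        ∃ γ, Ψ γ = ξ) ∧
      (∀ γ, Inv A (Ψ γ).1) ∧
      ∀ β γ, mult (fun d => (Φ β).1 (j d)) (Ψ γ).1 = mult (fun y => β.1 (ι y)) γ.1 := by
  classical
  let T := H7.inertia θ
  have hQT : Q ≤ T := H7.le_inertia (H6.irr_isClassFunction hθ)
  have hTA : ∀ (a : A), ∀ k ∈ T, a • k ∈ T := inertia_inv h.inv hθi
  letI := subAction T hTA
  have hQA : ∀ (a : A), ∀ k ∈ Q.subgroupOf T, a • k ∈ Q.subgroupOf T :=
    fun a k hk => h.inv a k hk
  letI := quotAction (Q.subgroupOf T) hQA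
  have hϑ := H7.isIrr_subgroupOf hQT hθ
  have hidx : ¬ p ∣ (Q.subgroupOf T).index := fun h1 =>
    h.not_dvd (h1.trans (Subgroup.relIndex_dvd_index_of_le hQT))
  obtain ⟨d, -, hd, hd2⟩ := H6.irr_one_dvd_card hϑ
  obtain ⟨k, hk⟩ := (h.qgroup.comap_subtype (K := T)).exists_card_eq
  have hcp : ∀ n, n ∣ Nat.card (Q.subgroupOf T) → (Q.subgroupOf T).index.Coprime n := by
    intro n hn
    refine Nat.Coprime.coprime_dvd_right hn ?_
    have : Nat.card (Q.subgroupOf T) = p ^ k := hk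
    rw [this]
    exact Nat.Coprime.pow_right k ((Nat.Prime.coprime_iff_not_dvd hp.out).2 hidx).symm
  obtain ⟨η, ⟨hη, hηθ, hηo⟩, hηu⟩ := H31.exists_canonical_ext (Q.subgroupOf T) hϑ
    (H31.invariant_subgroupOf le_rfl) hd
    (Nat.Coprime.mul_right (hcp _ (H31.detOrder_dvd_card _)) (hcp _ hd2))
  have hηc := H6.irr_isCharacter hη
  have hηθ' : ∀ q : Q, η ⟨q, hQT q.2⟩ = θ q := fun q => hηθ ⟨⟨q, hQT q.2⟩, q.2⟩
  have hηi : Inv A η := by
    intro a t
    have := hηu (fun t => η (a • t)) (isIrr_smul hη a)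
      (fun n => (hηθ ⟨a • (n : T), hQA a n n.2⟩).trans (hθi a ⟨(n : T), n.2⟩)) (by
        refine Nat.Coprime.coprime_dvd_right ?_ (hcp _ (H31.detOrder_dvd_card
          (fun x : Q.subgroupOf T => θ ⟨(x : T), Subgroup.mem_subgroupOf.mp x.2⟩)))
        rw [← hηo, H31.detOrder_eq, H31.detOrder_eq]
        have := H31.detHom_comp (MulDistribMulAction.toMonoidHom T a) hηc
        change orderOf (H31.detHom fun k => η (MulDistribMulAction.toMonoidHom T a k)) ∣ _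
        rw [this]
        exact (H31.orderOf_hom_dvd_iff _ _).2 fun g => (H31.orderOf_hom_dvd_iff _ _).1 dvd_rfl _)
    exact congrFun this t
  let U : Subgroup D := T.comap j
  have hQU : Q.comap j ≤ U := Subgroup.comap_mono hQT
  let e : Q.comap j ≃* Q := MulEquiv.ofBijective _ h.bij
  have hθD : IsIrrCharacter (Q.comap j) (fun x => θ ⟨j x, x.2⟩) :=
    H6.isIrrCharacter_comp_equiv e hθ
  have hηD : IsCharacter U (fun u : U => η ⟨j u, u.2⟩) :=
    H6.isCharacter_comp (j.subgroupComap T) hηc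
  have hηθD : ∀ q : Q.comap j, (fun u : U => η ⟨j u, u.2⟩) ⟨q, hQU q.2⟩ =
      (fun x : Q.comap j => θ ⟨j x, x.2⟩) q := fun q => hηθ' ⟨j q, q.2⟩
  have hU : H7.inertia (fun x : Q.comap j => θ ⟨j x, x.2⟩) ≤ U := by
    intro x hx
    rw [H7.mem_inertia'] at hx
    refine H7.mem_inertia'.2 fun n => ?_
    obtain ⟨y, rfl⟩ := h.bij.2 n
    refine Eq.trans ?_ (hx y)
    refine congrArg θ (Subtype.ext ?_)
    change j x * j y * (j x)⁻¹ = j (x * y * x⁻¹)
    simp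
  have hUA : ∀ (a : A), ∀ k ∈ U, a • k ∈ U := fun a k hk => by
    change j (a • k) ∈ T
    rw [h.equiv]
    exact hTA a _ hk
  haveI : Fintype U := Fintype.ofFinite _
  haveI : Fintype T := Fintype.ofFinite _
  let ι : U ⧸ (Q.comap j).subgroupOf U →* T ⧸ Q.subgroupOf T :=
    QuotientGroup.map _ _ (j.subgroupComap T) fun x hx => hx
  refine ⟨T ⧸ Q.subgroupOf T, U ⧸ (Q.comap j).subgroupOf U, inferInstance, Fintype.ofFinite _,
    inferInstance, Fintype.ofFinite _, inferInstance, ι, cgMap hQT hθ hηc hηθ' le_rfl,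
    cgMap hQU hθD hηD hηθD hU, ⟨h.pgroup, hidx, ?_, ?_⟩, ?_, ?_, ?_, ?_, ?_⟩
  · rw [injective_iff_map_eq_one]
    intro q hq
    obtain ⟨x, rfl⟩ := QuotientGroup.mk_surjective q
    exact (QuotientGroup.eq_one_iff _).2
      ((QuotientGroup.eq_one_iff (j.subgroupComap T x)).1 hq)
  · intro x
    obtain ⟨t, rfl⟩ := QuotientGroup.mk_surjective x
    have key : ∀ (a : A) (t : T), a • (t : T ⧸ Q.subgroupOf T) = t ↔
        a • (t : K) * (t : K)⁻¹ ∈ Q := by
      intro a t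
      rw [← mul_inv_eq_one]
      exact QuotientGroup.eq_one_iff (a • t * t⁻¹)
    constructor
    · rintro ⟨y, hy⟩ a
      obtain ⟨u, rfl⟩ := QuotientGroup.mk_surjective y
      rw [← hy]
      exact (key a (j.subgroupComap T u)).2 ((h.fix _).1 ⟨u, rfl⟩ a)
    · intro ht
      obtain ⟨x, hx⟩ := (h.fix t).2 fun a => (key a t).1 (ht a)
      refine ⟨((⟨x, by change j x ∈ T; rw [hx]; exact t.2⟩ : U) : U ⧸ _), ?_⟩
      exact congrArg QuotientGroup.mk (Subtype.ext hx)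
  · intro χ hχ hχθ
    obtain ⟨β, rfl⟩ := cgMap_surj hQT hθ hηc hηθ' le_rfl χ hχθ
    refine ⟨β, fun a x => ?_, rfl⟩
    have : cgMap hQT hθ hηc hηθ' le_rfl ⟨_, isIrr_smul β.2 a⟩ = cgMap hQT hθ hηc hηθ' le_rfl β := by
      apply Subtype.ext
      funext g
      rw [← hχ a g, cgMap_coe, cgMap_coe, indFun_smul_action hTA]
      congr 1
      funext t
      exact congrArg _ (hηi a t).symm
    exact congrArg (fun γ : IrrCharacter _ => γ.1 x) (cgMap_injective _ _ _ _ _ this)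
  · intro β hβ a g
    rw [cgMap_coe, indFun_smul_action hTA]
    congr 1
    funext t
    exact congrArg₂ (· * ·) (hβ a (t : T ⧸ Q.subgroupOf T)) (hηi a t)
  · intro ξ hξ
    exact cgMap_surj hQU hθD hηD hηθD hU ξ hξ
  · intro γ a g
    rw [cgMap_coe, indFun_smul_action hUA]
    congr 1
    funext u
    refine congrArg₂ (· * ·) (congrArg γ.1 ?_) ?_
    · rw [← mul_inv_eq_one, ← QuotientGroup.mk_inv, ← QuotientGroup.mk_mul,
        QuotientGroup.eq_one_iff]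
      change j (a • (u : D) * (u : D)⁻¹) ∈ Q
      rw [map_mul, map_inv, h.equiv]
      exact (h.fix _).1 ⟨u, rfl⟩ a
    · refine Eq.trans ?_ (hηi a ⟨j u, u.2⟩)
      exact congrArg η (Subtype.ext (h.equiv a u))
  · intro β γ
    letI : Fintype (T ⧸ Q.subgroupOf T) := Fintype.ofFinite _
    letI : Fintype (U ⧸ (Q.comap j).subgroupOf U) := Fintype.ofFinite _
    rw [mult, mult, cgMap_coe hQU, H7.classInner_indFun_right U _
      (H6.isClassFunction_comp j (H6.irr_isClassFunction (cgMap hQT hθ hηc hηθ' le_rfl β).2))]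
    have h1 := inner_res_clifford hQT hθ le_rfl (cg_mul_irr hQT hθ hηc hηθ' β)
      (cg_mul_over hQT hθ hηθ' β) (j.subgroupComap T)
      ((Subgroup.inclusion hQU).comp e.symm.toMonoidHom)
      (fun q => Subtype.ext (congrArg (fun z : Q => (z : K)) (e.apply_symm_apply q)))
      (cg_mul_irr hQU hθD hηD hηθD γ) (by
        have := cg_mul_over hQU hθD (η := fun u : U => η ⟨j u, u.2⟩) hηθD γ
        rw [← H6.classInner_comp_equiv e.symm.toEquiv] at this
        convert this using 2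
        · funext q
          rfl
        · funext q
          exact congrArg θ (e.apply_symm_apply q).symm)
    have h2 := cg_inner hQU hθD hηD hηθD
      (H6.isClassFunction_comp ι (H6.irr_isClassFunction β.2)) γ
    rw [← h2]
    exact congrArg (fun z : ℂ => ⌊z.re⌋₊) h1

variable [Finite A]

omit [Fintype D] [Fintype K] hQ in
theorem RelSetup.solv (h : RelSetup p A Q j) : Group.IsSolvable A := by
  haveI := h.pgroup.isNilpotent
  infer_instance

omit [Fintype K] [Fintype D] hQ in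
theorem RelSetup.coprime (h : RelSetup p A Q j) {n : ℕ} (hn : ¬ p ∣ n) :
    n.Coprime (Nat.card A) := by
  obtain ⟨k, hk⟩ := h.pgroup.exists_card_eq
  rw [hk]
  exact Nat.Coprime.pow_right k ((Nat.Prime.coprime_iff_not_dvd hp.out).2 hn).symm

/-- An invariant character of `D` lies over an invariant character of `Q`. -/
theorem RelSetup.exists_under [Fintype (Q.comap j)] (h : RelSetup p A Q j) (ξ : IrrCharacter D)
    (hξ : Inv A ξ.1) : ∃ θ : Q → ℂ, IsIrrCharacter Q θ ∧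
      (∀ (a : A) (q : Q), θ ⟨a • (q : K), h.inv a q q.2⟩ = θ q) ∧
      classInner (fun x : Q.comap j => ξ.1 x) (fun x => θ ⟨j x, x.2⟩) ≠ 0 := by
  let e : Q.comap j ≃* Q := MulEquiv.ofBijective _ h.bij
  have hQA : ∀ (a : A), ∀ k ∈ Q.comap j, a • k ∈ Q.comap j := fun a k hk => by
    change j (a • k) ∈ Q
    rw [h.equiv]
    exact h.inv a _ hk
  obtain ⟨θ, h1, h2⟩ := exists_inv_under (Q.comap j) hQA (h.coprime fun hd => h.not_dvd (by
    rw [Subgroup.index_comap] at hd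
    refine hd.trans (Subgroup.relIndex_dvd_index_of_normal _ _))) (Or.inl h.solv) ξ.2 hξ
  refine ⟨fun q => θ.1 (e.symm q), H6.isIrrCharacter_comp_equiv e.symm θ.2, fun a q => ?_, ?_⟩
  · obtain ⟨x, rfl⟩ := e.surjective q
    beta_reduce
    rw [e.symm_apply_apply, ← h1 a x]
    refine congrArg θ.1 (e.symm_apply_eq.2 (Subtype.ext ?_))
    exact (h.equiv a x).symm
  · convert h2 using 2
    funext x
    exact congrArg θ.1 (e.symm_apply_apply x)

omit hp hQ [Finite A] [Fintype K] in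
theorem RelSetup.over_of_mult [Fintype Q] [Fintype (Q.comap j)] (h : RelSetup p A Q j)
    (χ : IrrCharacter K) (ξ : IrrCharacter D) (hm : mult (fun d => χ.1 (j d)) ξ.1 ≠ 0) {θ : Q → ℂ}
    (hθ : IsIrrCharacter Q θ)
    (hξ : classInner (fun x : Q.comap j => ξ.1 x) (fun x => θ ⟨j x, x.2⟩) ≠ 0) :
    classInner (fun q : Q => χ.1 q) θ ≠ 0 := by
  let e : Q.comap j ≃* Q := MulEquiv.ofBijective _ h.bij
  have hc := H6.isCharacter_comp j (H6.irr_isCharacter χ.2)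
  have := H7.inner_comp_ne_zero_of_constituent (Q.comap j).subtype hc ξ.2
    ((mult_ne_zero_iff hc (H6.irr_isCharacter ξ.2)).1 hm)
    (H6.irr_isCharacter (H6.isIrrCharacter_comp_equiv e hθ)) hξ
  rw [← H6.classInner_comp_equiv e.toEquiv]
  exact this

theorem RelSetup.exists_corr_right (h : RelSetup p A Q j) (χ : IrrCharacter K) (hχ : Inv A χ.1) :
    ∃ ξ : IrrCharacter D, Inv A ξ.1 ∧ ¬ p ∣ mult (fun d => χ.1 (j d)) ξ.1 := by
  haveI : Fintype Q := Fintype.ofFinite _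
  haveI : Fintype (Q.comap j) := Fintype.ofFinite _
  obtain ⟨θ, h1, h2⟩ := exists_inv_under Q h.inv (h.coprime h.not_dvd) (Or.inl h.solv) χ.2 hχ
  obtain ⟨X, Y, _, _, _, _, _, ι, Φ, Ψ, g, a1, -, -, a4, a5⟩ := h.data θ.2 h1
  obtain ⟨β, hβ, rfl⟩ := a1 χ hχ h2
  obtain ⟨γ, hγ⟩ := g.exists_corr_right β hβ
  exact ⟨Ψ γ, a4 γ, by rwa [a5]⟩

theorem RelSetup.exists_corr_left (h : RelSetup p A Q j) (ξ : IrrCharacter D) (hξ : Inv A ξ.1) :
    ∃ χ : IrrCharacter K, Inv A χ.1 ∧ ¬ p ∣ mult (fun d => χ.1 (j d)) ξ.1 := by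
  haveI : Fintype Q := Fintype.ofFinite _
  haveI : Fintype (Q.comap j) := Fintype.ofFinite _
  obtain ⟨θ, hθ, h1, h2⟩ := h.exists_under ξ hξ
  obtain ⟨X, Y, _, _, _, _, _, ι, Φ, Ψ, g, -, a2, a3, -, a5⟩ := h.data hθ h1
  obtain ⟨γ, rfl⟩ := a3 ξ h2
  obtain ⟨β, hβ, hγ⟩ := g.exists_corr_left γ
  exact ⟨Φ β, a2 β hβ, by rwa [a5]⟩

theorem RelSetup.corr_unique_left (h : RelSetup p A Q j) (χ ψ : IrrCharacter K) (hχ : Inv A χ.1)
    (hψ : Inv A ψ.1) (ξ : IrrCharacter D) (hξ : Inv A ξ.1)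
    (m1 : ¬ p ∣ mult (fun d => χ.1 (j d)) ξ.1) (m2 : ¬ p ∣ mult (fun d => ψ.1 (j d)) ξ.1) :
    χ = ψ := by
  haveI : Fintype Q := Fintype.ofFinite _
  haveI : Fintype (Q.comap j) := Fintype.ofFinite _
  obtain ⟨θ, hθ, h1, h2⟩ := h.exists_under ξ hξ
  obtain ⟨X, Y, _, _, _, _, _, ι, Φ, Ψ, g, a1, -, a3, -, a5⟩ := h.data hθ h1
  obtain ⟨γ, rfl⟩ := a3 ξ h2
  obtain ⟨β, hβ, rfl⟩ := a1 χ hχ (h.over_of_mult χ _ (fun e => m1 (e ▸ dvd_zero p)) hθ h2)
  obtain ⟨β', hβ', rfl⟩ := a1 ψ hψ (h.over_of_mult ψ _ (fun e => m2 (e ▸ dvd_zero p)) hθ h2)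
  rw [a5] at m1 m2
  rw [g.corr_unique_left β β' hβ hβ' γ m1 m2]

theorem RelSetup.corr_sq (h : RelSetup p A Q j) (χ : IrrCharacter K) (hχ : Inv A χ.1)
    (ξ : IrrCharacter D) (hξ : Inv A ξ.1) (m1 : ¬ p ∣ mult (fun d => χ.1 (j d)) ξ.1) :
    ((mult (fun d => χ.1 (j d)) ξ.1 : ℕ) : ℤ) ≡ 1 [ZMOD p] ∨
      ((mult (fun d => χ.1 (j d)) ξ.1 : ℕ) : ℤ) ≡ -1 [ZMOD p] := by
  haveI : Fintype Q := Fintype.ofFinite _
  haveI : Fintype (Q.comap j) := Fintype.ofFinite _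
  obtain ⟨θ, hθ, h1, h2⟩ := h.exists_under ξ hξ
  obtain ⟨X, Y, _, _, _, _, _, ι, Φ, Ψ, g, a1, -, a3, -, a5⟩ := h.data hθ h1
  obtain ⟨γ, rfl⟩ := a3 ξ h2
  obtain ⟨β, hβ, rfl⟩ := a1 χ hχ (h.over_of_mult χ _ (fun e => m1 (e ▸ dvd_zero p)) hθ h2)
  rw [a5] at m1 ⊢
  exact g.corr_sq β hβ γ m1

theorem RelSetup.corr_unique_right (h : RelSetup p A Q j) (χ : IrrCharacter K) (hχ : Inv A χ.1)
    (ξ ζ : IrrCharacter D) (hξ : Inv A ξ.1) (hζ : Inv A ζ.1)
    (m1 : ¬ p ∣ mult (fun d => χ.1 (j d)) ξ.1) (m2 : ¬ p ∣ mult (fun d => χ.1 (j d)) ζ.1) :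
    ξ = ζ := by
  haveI : Fintype Q := Fintype.ofFinite _
  haveI : Fintype (Q.comap j) := Fintype.ofFinite _
  obtain ⟨θ, hθ, h1, h2⟩ := h.exists_under ξ hξ
  obtain ⟨θ', hθ', h1', h2'⟩ := h.exists_under ζ hζ
  have o1 := h.over_of_mult χ _ (fun e => m1 (e ▸ dvd_zero p)) hθ h2
  have o2 := h.over_of_mult χ _ (fun e => m2 (e ▸ dvd_zero p)) hθ' h2'
  obtain ⟨k, hk⟩ := H7.mem_conjOrbit.1 (H7.mem_conjOrbit_of_inner_res_ne_zero χ.2 hθ' hθ o2 o1)
  obtain ⟨c, hc1, hc2⟩ := exists_fixed_mod_in_coset h.pgroup h.inv h.not_dvd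
    (H7.le_inertia (H6.irr_isClassFunction hθ')) (inertia_inv h.inv h1') (k := k) (by
      intro a
      rw [← H7.conjChar_eq_iff, ← hk]
      funext n
      rw [← h1 a⁻¹ n, hk, H7.conjChar_apply, H7.conjChar_apply, ← h1' a⁻¹]
      refine congrArg θ' (Subtype.ext ?_)
      simp [smul_mul', smul_inv'])
  rw [← H7.conjChar_eq_iff, ← hk] at hc1
  obtain ⟨d, rfl⟩ := (h.fix c).2 hc2
  have h3 : classInner (fun x : Q.comap j => ζ.1 x) (fun x => θ ⟨j x, x.2⟩) ≠ 0 := by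
    rw [← H7.classInner_res_conjChar d (H6.irr_isClassFunction ζ.2)] at h2'
    convert h2' using 2
    funext x
    rw [← hc1]
    refine congrArg θ' (Subtype.ext ?_)
    change j d * j x * (j d)⁻¹ = j (d * x * d⁻¹)
    simp
  obtain ⟨X, Y, _, _, _, _, _, ι, Φ, Ψ, g, a1, -, a3, -, a5⟩ := h.data hθ h1
  obtain ⟨γ, rfl⟩ := a3 ξ h2
  obtain ⟨γ', rfl⟩ := a3 ζ h3
  obtain ⟨β, hβ, rfl⟩ := a1 χ hχ o1
  rw [a5] at m1 m2
  rw [g.corr_unique_right β hβ γ γ' m1 m2]

/-- The degrees of correspondents. -/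
theorem RelSetup.degree (h : RelSetup p A Q j) (χ : IrrCharacter K) (hχ : Inv A χ.1)
    (ξ : IrrCharacter D) (hξ : Inv A ξ.1) (m1 : ¬ p ∣ mult (fun d => χ.1 (j d)) ξ.1) :
    PDvd p (χ.1 1 - mult (fun d => χ.1 (j d)) ξ.1 * ξ.1 1) := by
  classical
  have hc := H6.isCharacter_comp j (H6.irr_isCharacter χ.2)
  have h1 := char_eq_sum_mult hc 1
  simp only [map_one] at h1
  have hint : ∀ ζ : IrrCharacter D, IsIntegral ℤ (ζ.1 1) := fun ζ =>
    H6.char_isIntegral (H6.irr_isCharacter ζ.2) 1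
  have h2 := pdvd_sum_irr_sub h.pgroup
    (fun ζ : IrrCharacter D => (mult (fun d => χ.1 (j d)) ζ.1 : ℂ) * ζ.1 1) (by
      intro a ζ
      simp only [smul_one]
      congr 2
      rw [mult, mult, ← classInner_smul_smul a (fun d => χ.1 (j d)) ζ.1]
      simp only [h.equiv, hχ a]) (fun ζ => (isIntegral_natCast' _).mul (hint ζ))
  rw [← h1] at h2
  refine h2.trans_sub ?_
  rw [← Finset.add_sum_erase _ _ (show ξ ∈ _ from Finset.mem_filter.2 ⟨Finset.mem_univ _, hξ⟩),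
    add_sub_cancel_left]
  refine PDvd.sum _ fun ζ hζ => PDvd.mul_right (pdvd_of_nat_dvd ?_) (hint ζ)
  by_contra h3
  exact (Finset.mem_erase.1 hζ).1
    (h.corr_unique_right χ hχ ζ ξ (Finset.mem_filter.1 (Finset.mem_erase.1 hζ).2).2 hξ h3 m1)

end rel

end H88
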