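import Mathlib
import Cfsg.Agent.Lib.Glaub.Solvable
import Cfsg.Agent.Lib.Char.ExtMain
import Cfsg.Agent.Lib.Char.Galois
import Cfsg.Agent.S0868

/-!
Values of extended characters on cosets: counting lemma, characters of abelian groups of small
norm off the identity, partial inner products, and the cyclic Glauberman correspondence.
-/

set_option autoImplicit false
set_option linter.style.haveILetI false

namespace H88

open Cfsg
open scoped ComplexConjugate

section comb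

variable {ι : Type*} [Fintype ι]

theorem sum_sum_sub_sq (a : ι → ℤ) :
    ∑ i, ∑ j, (a i - a j) ^ 2 = 2 * (Fintype.card ι * ∑ i, a i ^ 2 - (∑ i, a i) ^ 2) := by
  simp only [sub_sq, Finset.sum_add_distrib, Finset.sum_sub_distrib, Finset.sum_const,
    Finset.card_univ, nsmul_eq_mul, ← Finset.mul_sum, ← Finset.sum_mul]
  ring

theorem int_family_cases [DecidableEq ι] (a : ι → ℤ) (h : ∃ i j, a i ≠ a j) :
    (Fintype.card ι : ℤ) - 1 ≤ Fintype.card ι * ∑ i, a i ^ 2 - (∑ i, a i) ^ 2 ∧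
    (Fintype.card ι * ∑ i, a i ^ 2 - (∑ i, a i) ^ 2 ≤ (Fintype.card ι : ℤ) - 1 →
      ∃ (m ε : ℤ) (j : ι), (ε = 1 ∨ ε = -1) ∧ ∀ i, a i = m + if i = j then ε else 0) := by
  obtain ⟨i₁, j₁, hne⟩ := h
  obtain ⟨i₀, -, h0⟩ := Finset.exists_min_image Finset.univ a ⟨i₁, Finset.mem_univ _⟩
  set A := Finset.univ.filter fun i => a i = a i₀ with hA
  have hA1 : 1 ≤ A.card := Finset.card_pos.2 ⟨i₀, by simp [hA]⟩
  have hA2 : 1 ≤ Aᶜ.card := Finset.card_pos.2 (by
    by_cases h1 : a i₁ = a i₀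
    · exact ⟨j₁, by simp [hA, ← h1, hne.symm]⟩
    · exact ⟨i₁, by simp [hA, h1]⟩)
  have hcard : (Fintype.card ι : ℤ) = A.card + Aᶜ.card := by
    exact_mod_cast (Finset.card_add_card_compl A).symm
  have hb : ∀ j ∈ Aᶜ, 1 ≤ (a j - a i₀) ^ 2 := fun j hj => by
    have h1 := h0 j (Finset.mem_univ _)
    have h2 : a j ≠ a i₀ := by simpa [hA] using hj
    have : 1 ≤ a j - a i₀ := by omega
    nlinarith
  have hs : (Aᶜ.card : ℤ) ≤ ∑ j ∈ Aᶜ, (a j - a i₀) ^ 2 := by
    simpa using Finset.sum_le_sum hb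
  have key : 2 * (A.card * ∑ j ∈ Aᶜ, (a j - a i₀) ^ 2) ≤ ∑ i, ∑ j, (a i - a j) ^ 2 := by
    rw [← Finset.sum_add_sum_compl A, two_mul]
    refine add_le_add ?_ ?_
    · rw [← nsmul_eq_mul, ← Finset.sum_const]
      refine Finset.sum_le_sum fun i hi => ?_
      rw [(Finset.mem_filter.1 hi).2]
      simp only [sub_sq_comm (a i₀)]
      exact Finset.sum_le_sum_of_subset_of_nonneg (Finset.subset_univ _) fun _ _ _ => sq_nonneg _
    · rw [Finset.mul_sum]
      refine Finset.sum_le_sum fun i _ => ?_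
      rw [← nsmul_eq_mul, ← Finset.sum_const,
        Finset.sum_congr rfl (g := fun j => (a i - a j) ^ 2) fun j hj => by
          rw [(Finset.mem_filter.1 hj).2]]
      exact Finset.sum_le_sum_of_subset_of_nonneg (Finset.subset_univ _) fun _ _ _ => sq_nonneg _
  rw [sum_sum_sub_sq] at key
  have hA1' : (1 : ℤ) ≤ A.card := by exact_mod_cast hA1
  have hA2' : (1 : ℤ) ≤ Aᶜ.card := by exact_mod_cast hA2
  refine ⟨by nlinarith, fun hle => ?_⟩
  have h1 : ∑ j ∈ Aᶜ, (a j - a i₀) ^ 2 ≤ ∑ j ∈ Aᶜ, (1 : ℤ) := by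
    rw [Finset.sum_const, nsmul_eq_mul, mul_one]
    nlinarith
  have h2 : ∀ j ∈ Aᶜ, a j = a i₀ + 1 := fun j hj => by
    have h3 := (Finset.sum_eq_sum_iff_of_le hb).1 (le_antisymm (Finset.sum_le_sum hb) h1) j hj
    have h4 := h0 j (Finset.mem_univ _)
    nlinarith
  have h3 : A.card = 1 ∨ Aᶜ.card = 1 := by
    by_contra hh
    push Not at hh
    have : (2 : ℤ) ≤ A.card := by omega
    have : (2 : ℤ) ≤ Aᶜ.card := by omega
    nlinarith
  rcases h3 with h3 | h3
  · obtain ⟨j, hj⟩ := Finset.card_eq_one.1 h3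
    refine ⟨a i₀ + 1, -1, j, Or.inr rfl, fun i => ?_⟩
    split_ifs with hi
    · have : j ∈ A := hj ▸ Finset.mem_singleton_self j
      rw [hi, (Finset.mem_filter.1 this).2]
      ring
    · rw [h2 i (by rw [hj]; simpa using hi), add_zero]
  · obtain ⟨j, hj⟩ := Finset.card_eq_one.1 h3
    refine ⟨a i₀, 1, j, Or.inl rfl, fun i => ?_⟩
    split_ifs with hi
    · exact h2 i (by rw [hj, hi]; exact Finset.mem_singleton_self j)
    · have : i ∉ Aᶜ := by rw [hj]; simpa using hi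
      rw [add_zero]
      simpa [hA] using this

end comb

section abelian

variable {S : Type*} [Group S] [Fintype S] [DecidableEq S]

/-- A character of an abelian group vanishing off the identity has degree divisible by the order. -/
theorem exists_one_eq_of_vanish {ψ : S → ℂ} (hψ : IsCharacter S ψ) (h : ∀ x ≠ 1, ψ x = 0) :
    ∃ a : ℕ, ψ 1 = Nat.card S * a := by
  obtain ⟨a, ha⟩ := H6.char_inner_nat hψ H6.isCharacter_one
  rw [H6.classInner_one_right, Finset.sum_eq_single 1 (fun x _ hx => h x hx) (by simp),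
    inv_mul_eq_iff_eq_mul₀ H6.card_ne_zero] at ha
  exact ⟨a, ha⟩

theorem char_comm_cases (hS : ∀ a b : S, a * b = b * a) {ψ : S → ℂ} (hψ : IsCharacter S ψ)
    (h : ∃ x ≠ 1, ψ x ≠ 0) :
    (Nat.card S : ℝ) - 1 ≤ ∑ x ∈ Finset.univ.erase 1, ‖ψ x‖ ^ 2 ∧
    (∑ x ∈ Finset.univ.erase 1, ‖ψ x‖ ^ 2 ≤ (Nat.card S : ℝ) - 1 →
      ∃ (a : ℕ) (ε : ℤ) (μ : S →* ℂˣ), (ε = 1 ∨ ε = -1) ∧ ψ 1 = Nat.card S * a + ε ∧
        ∀ x ≠ 1, ψ x = ε * μ x) := by
  classical
  choose n hn using fun lam : IrrCharacter S => H6.char_inner_nat hψ (H6.irr_isCharacter lam.2)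
  have h0 := H6.classFun_apply_eq_sum_irr (H6.char_isClassFunction hψ)
  simp only [hn] at h0
  have h1 : ∀ lam : IrrCharacter S, lam.1 1 = 1 := fun lam => H6.irr_one_eq_one_of_comm hS lam.2
  have h2 : ∀ x ≠ 1, ∑ lam : IrrCharacter S, lam.1 x = 0 := fun x hx => by
    simpa [h1] using H6.sum_irr_one_mul hx
  have hcard : Fintype.card (IrrCharacter S) = Nat.card S := by
    rw [← Nat.card_eq_fintype_card, ← H6.card_hom_of_comm hS]
    exact (Nat.card_congr (Equiv.ofBijective _ (H6.irrOfHom_bijective_of_comm hS))).symm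
  have h3 : ∑ x ∈ Finset.univ.erase 1, ‖ψ x‖ ^ 2 =
      ((Nat.card S * ∑ lam, (n lam : ℤ) ^ 2 - (∑ lam, (n lam : ℤ)) ^ 2 : ℤ) : ℝ) := by
    have h4 := H6.parseval (H6.char_isClassFunction hψ) ψ
    simp only [hn, map_natCast] at h4
    rw [H6.classInner_self_eq, ← Finset.add_sum_erase _ _ (Finset.mem_univ 1), h0 1] at h4
    simp only [h1, mul_one] at h4
    rw [← Nat.cast_sum, Complex.norm_natCast] at h4
    have h5 : (Nat.card S : ℝ)⁻¹ * (((∑ lam, n lam : ℕ) : ℝ) ^ 2 +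
        ∑ x ∈ Finset.univ.erase 1, ‖ψ x‖ ^ 2) = ∑ lam, (n lam : ℝ) * n lam := by
      exact_mod_cast h4
    rw [inv_mul_eq_iff_eq_mul₀ (Nat.cast_ne_zero.2 Nat.card_pos.ne')] at h5
    push_cast at h5 ⊢
    simp only [sq] at h5 ⊢
    linarith
  obtain ⟨x, hx, hx0⟩ := h
  have h6 := int_family_cases (fun lam => (n lam : ℤ)) (by
    by_contra hc
    push Not at hc
    apply hx0
    obtain ⟨l⟩ : Nonempty (IrrCharacter S) := inferInstance
    rw [h0, Finset.sum_congr rfl (g := fun lam => (n l : ℂ) * lam.1 x) fun lam _ => by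
      rw [show n lam = n l by exact_mod_cast hc lam l], ← Finset.mul_sum, h2 x hx, mul_zero])
  rw [hcard] at h6
  rw [h3]
  refine ⟨by exact_mod_cast h6.1, fun hle => ?_⟩
  obtain ⟨m, ε, j, hε, hm⟩ := h6.2 (by exact_mod_cast hle)
  have hm' : ∀ i, (n i : ℂ) = m + if i = j then (ε : ℂ) else 0 := fun i => by
    have := hm i
    split_ifs at this ⊢ <;> exact_mod_cast this
  obtain ⟨μ, hμ⟩ := H6.irr_eq_hom_of_comm hS j.2
  have h7 : ∀ y, ψ y = m * ∑ lam : IrrCharacter S, lam.1 y + ε * μ y := fun y => by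
    simp only [h0 y, hm', add_mul, Finset.sum_add_distrib, ← Finset.mul_sum, ite_mul, zero_mul,
      Finset.sum_ite_eq', Finset.mem_univ, if_true, hμ]
  haveI : Nontrivial S := ⟨⟨x, 1, hx⟩⟩
  haveI : Nontrivial (IrrCharacter S) :=
    Fintype.one_lt_card_iff_nontrivial.1 (hcard ▸ Finite.one_lt_card)
  obtain ⟨i, hi⟩ := exists_ne j
  refine ⟨n i, ε, μ, hε, ?_, fun y hy => by rw [h7, h2 y hy, mul_zero, zero_add]⟩
  rw [h7, hm' i, if_neg hi]
  simp [h1, hcard, mul_comm]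

end abelian

section coset

variable {Γ : Type*} [Group Γ] [Finite Γ]

/-- Counting lemma: the coset `G y` is the union of the `G`-conjugates of `D y`. -/
theorem sum_coset_eq {M : Type*} [AddCommMonoid M] (G D : Subgroup Γ) [Fintype G] [Fintype D]
    (hDG : D ≤ G) {y : Γ} (hy : ∀ g ∈ G, y * g * y⁻¹ ∈ G)
    (hD : ∀ g ∈ G, ∀ d ∈ D, ∀ d' ∈ D, g * (d * y) * g⁻¹ = d' * y → g ∈ D) (F : Γ → M)
    (hF : ∀ g ∈ G, ∀ x, F (g * x * g⁻¹) = F x) :
    ∑ g : G, F (g * y) = D.relIndex G • ∑ d : D, F (d * y) := by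
  classical
  haveI := Fintype.ofFinite (G ⧸ D.subgroupOf G)
  let Φ : (G ⧸ D.subgroupOf G) × D → G := fun q =>
    q.1.out * ⟨q.2, hDG q.2.2⟩ * ⟨y * ((q.1.out : G) : Γ)⁻¹ * y⁻¹, hy _ (G.inv_mem q.1.out.2)⟩
  have hΦ : ∀ q, (Φ q : Γ) * y = q.1.out * (q.2 * y) * (q.1.out : Γ)⁻¹ := fun q => by
    simp only [Φ, Subgroup.coe_mul]
    group
  have hinj : Function.Injective Φ := by
    rintro ⟨q, d⟩ ⟨q', d'⟩ h
    have h1 : (q.out : Γ) * (d * y) * (q.out : Γ)⁻¹ = q'.out * (d' * y) * (q'.out : Γ)⁻¹ :=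
      (hΦ _).symm.trans ((congrArg (fun g : G => (g : Γ) * y) h).trans (hΦ _))
    have h2 : q' = q := by
      rw [← q.out_eq', ← q'.out_eq', QuotientGroup.eq]
      refine hD _ (G.mul_mem (G.inv_mem q'.out.2) q.out.2) d d.2 d' d'.2 ?_
      calc (q'.out : Γ)⁻¹ * q.out * (d * y) * ((q'.out : Γ)⁻¹ * q.out)⁻¹
          = (q'.out : Γ)⁻¹ * ((q.out : Γ) * (d * y) * (q.out : Γ)⁻¹) * q'.out := by group
        _ = _ := by rw [h1]; group
    subst h2
    exact Prod.ext rfl (Subtype.ext (mul_right_cancel (mul_left_cancel (mul_right_cancel h1))))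
  have hbij : Function.Bijective Φ := hinj.bijective_of_nat_card_le (by
    rw [Nat.card_prod, ← Nat.card_congr (Subgroup.subgroupOfEquivOfLe hDG).toEquiv,
      Subgroup.card_eq_card_quotient_mul_card_subgroup (D.subgroupOf G)])
  rw [← hbij.sum_comp, Fintype.sum_prod_type]
  simp only [hΦ, hF _ (Subtype.property _), Finset.sum_const, Finset.card_univ]
  rw [Subgroup.relIndex, Subgroup.index, Nat.card_eq_fintype_card]

theorem avg_coset_eq (G D : Subgroup Γ) [Fintype G] [Fintype D]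
    (hDG : D ≤ G) {y : Γ} (hy : ∀ g ∈ G, y * g * y⁻¹ ∈ G)
    (hD : ∀ g ∈ G, ∀ d ∈ D, ∀ d' ∈ D, g * (d * y) * g⁻¹ = d' * y → g ∈ D) (F : Γ → ℂ)
    (hF : ∀ g ∈ G, ∀ x, F (g * x * g⁻¹) = F x) :
    (Nat.card D : ℂ)⁻¹ * ∑ d : D, F (d * y) = (Nat.card G : ℂ)⁻¹ * ∑ g : G, F (g * y) := by
  have h1 : D.relIndex G * Nat.card D = Nat.card G := by
    rw [← Nat.card_congr (Subgroup.subgroupOfEquivOfLe hDG).toEquiv]
    exact (D.subgroupOf G).index_mul_card
  have h2 : (D.relIndex G : ℂ) ≠ 0 := Nat.cast_ne_zero.2 Subgroup.index_ne_zero_of_finite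
  rw [sum_coset_eq G D hDG hy hD F hF, ← h1, nsmul_eq_mul]
  push_cast
  field_simp

/-- The hypothesis of the counting lemma in the coprime situation. -/
theorem mem_of_conj_coset {G : Subgroup Γ} {y : Γ} (hcop : (Nat.card G).Coprime (orderOf y))
    {g d d' : Γ} (hd : d ∈ G) (hd' : d' ∈ G) (h1 : Commute d y) (h2 : Commute d' y)
    (h : g * (d * y) * g⁻¹ = d' * y) : Commute g y := by
  obtain ⟨k, hk1, hk2⟩ := Nat.chineseRemainder hcop 0 1
  have key : ∀ e ∈ G, Commute e y → (e * y) ^ k = y := fun e he hc => by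
    rw [hc.mul_pow, (pow_eq_pow_iff_modEq (x := y)).2 hk2, pow_one,
      (pow_eq_pow_iff_modEq (x := e)).2 (hk1.of_dvd (G.orderOf_dvd_natCard he)), pow_zero, one_mul]
  have := congrArg (· ^ k) h
  simp only [conj_pow, key d hd h1, key d' hd' h2] at this
  exact mul_inv_eq_iff_eq_mul.1 this

/-- Partial inner products over a commuting pair of subgroups are characters. -/
theorem isCharacter_partial (C S : Subgroup Γ) [Fintype C]
    (hCS : ∀ (c : C) (x : S), Commute (c : Γ) x) {χ : Γ → ℂ} (hχ : IsCharacter Γ χ) {β : C → ℂ}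
    (hβ : IsCharacter C β) :
    IsCharacter S (fun x : S => classInner (fun c : C => χ (c * x)) β) := by
  classical
  haveI := Fintype.ofFinite S
  let f : C × S →* Γ := MonoidHom.noncommCoprod C.subtype S.subtype hCS
  refine H6.isCharacter_of_inner (fun x t => ?_) fun lam hlam => ?_
  · congr 1
    ext c
    rw [← H6.char_isClassFunction hχ (c * x) t, ← mul_assoc, ← (hCS c t).eq]
    simp only [Subgroup.coe_mul, Subgroup.coe_inv, mul_assoc]
  · obtain ⟨n, hn⟩ := H6.char_inner_nat (H6.isCharacter_comp f hχ)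
      (H6.isCharacter_prodMul hβ (H6.irr_isCharacter hlam))
    refine ⟨n, ?_⟩
    rw [← hn]
    simp only [H6.classInner_def, Fintype.sum_prod_type_right, Nat.card_prod, Finset.mul_sum,
      Finset.sum_mul, map_mul]
    refine Finset.sum_congr rfl fun x _ => Finset.sum_congr rfl fun c _ => ?_
    have : f (c, x) = c * x := rfl
    rw [this]
    push_cast
    ring

omit [Finite Γ] in
theorem isClassFunction_partial (C : Subgroup Γ) {y : Γ} (hy : ∀ c : C, Commute (c : Γ) y)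
    {χ : Γ → ℂ} (hχ : IsClassFunction Γ χ) : IsClassFunction C (fun c : C => χ (c * y)) := by
  intro c t
  beta_reduce
  rw [← hχ (c * y) t]
  simp only [Subgroup.coe_mul, Subgroup.coe_inv, mul_assoc, (hy t).inv_left.eq]

end coset

section cyc

variable {Γ : Type*} [Group Γ] [Fintype Γ] {G S C : Subgroup Γ}

omit [Fintype Γ] in
theorem normal_of_sup (hnorm : ∀ s ∈ S, ∀ g ∈ G, s * g * s⁻¹ ∈ G) [Finite G] (htop : G ⊔ S = ⊤) :
    G.Normal := by
  rw [← Subgroup.normalizer_eq_top_iff, eq_top_iff, ← htop]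
  exact sup_le Subgroup.le_normalizer fun s hs => Subgroup.mem_normalizer_fintype (hnorm s hs)

theorem index_dvd_of_sup [G.Normal] (htop : G ⊔ S = ⊤) : G.index ∣ Nat.card S := by
  rw [← Subgroup.relIndex_top_right, ← htop, Subgroup.relIndex_sup_left]
  exact Subgroup.relIndex_dvd_card _ _

/-- Inner products on `C s` equal the coset averages on `G s`. -/
theorem inner_partial_eq [Fintype G] [Fintype C] [hG : G.Normal] {y : Γ}
    (hcop : (Nat.card G).Coprime (orderOf y)) (hC : C = G ⊓ Subgroup.centralizer {y})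
    {χ ψ : Γ → ℂ} (hχ : IsClassFunction Γ χ) (hψ : IsClassFunction Γ ψ) :
    classInner (fun c : C => ψ (c * y)) (fun c : C => χ (c * y)) =
      (Nat.card G : ℂ)⁻¹ * ∑ g : G, ψ (g * y) * conj (χ (g * y)) := by
  rw [H6.classInner_def]
  refine avg_coset_eq G C (hC ▸ inf_le_left) (fun g hg => hG.conj_mem g hg y)
    (fun g hg d hd d' hd' h => ?_) (fun x => ψ x * conj (χ x)) fun g _ x => by rw [hχ, hψ]
  rw [hC] at hd hd' ⊢
  exact ⟨hg, Subgroup.mem_centralizer_singleton_iff.2 (mem_of_conj_coset hcop hd.1 hd'.1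
    (Subgroup.mem_centralizer_singleton_iff.1 hd.2) (Subgroup.mem_centralizer_singleton_iff.1 hd'.2) h)⟩

/-- The canonical extension takes the same value at `c s` and `c s ^ m`. -/
theorem canonical_pow [hG : G.Normal] (hcop : (Nat.card G).Coprime (Nat.card S)) (htop : G ⊔ S = ⊤)
    (hS : ∀ a b : S, a * b = b * a) {χ : Γ → ℂ} (hχ : IsCharacter Γ χ)
    (hχG : IsIrrCharacter G fun g : G => χ g) (hdet : (detOrder χ).Coprime (Nat.card S))
    {c s : Γ} (hc : c ∈ G) (hs : s ∈ S) (hcs : Commute c s) {m : ℕ} (hm : m.Coprime (Nat.card S)) :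
    χ (c * s ^ m) = χ (c * s) := by
  obtain ⟨k, hk1, hk2⟩ := Nat.chineseRemainder hcop 1 m
  have hcard : Nat.card Γ ∣ Nat.card G * Nat.card S := by
    rw [← G.card_mul_index]
    exact Nat.mul_dvd_mul_left _ (index_dvd_of_sup htop)
  have hk : k.Coprime (Nat.card Γ) := Nat.Coprime.coprime_dvd_right hcard (Nat.Coprime.mul_right
    ((hk1.gcd_eq).trans (by simp)) ((hk2.gcd_eq).trans hm))
  obtain ⟨σ, hσ⟩ := H8.exists_ringEquiv_character_pow hk
  have hσχ := hσ χ (Or.inr hχ)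
  have hpow : ∀ g ∈ G, g ^ k = g := fun g hg => by
    rw [(pow_eq_pow_iff_modEq (x := g)).2 (hk1.of_dvd (G.orderOf_dvd_natCard hg)), pow_one]
  have hχ' : IsCharacter Γ fun g => χ (g ^ k) := by
    simp only [← hσχ]
    exact H8.isCharacter_ringHom_comp hχ (σ : ℂ →+* ℂ)
  obtain ⟨B, hB1, hB2⟩ := H31.exists_hom_of_two_extensions G hχG hχ hχ' (fun _ => rfl)
    (fun g => by rw [hpow _ g.2])
  obtain ⟨d, -, hd, hdG⟩ := H6.irr_one_dvd_card hχG
  have hdet1 : ∀ t ∈ S, H31.detHom χ t = 1 := fun t ht => by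
    rw [← orderOf_eq_one_iff]
    refine Nat.eq_one_of_dvd_coprimes hdet ?_ ((orderOf_map_dvd _ t).trans (S.orderOf_dvd_natCard ht))
    rw [H31.detOrder_eq, orderOf_dvd_iff_pow_eq_one, ← MonoidHom.pow_apply, pow_orderOf_eq_one]
    rfl
  have hBS : ∀ t ∈ S, B t = 1 := fun t ht => by
    letI : CommGroup S := { (inferInstance : Group S) with mul_comm := hS }
    have h1 := H31.detHom_hom_mul hχ (d := d) hd B t
    rw [hdet1 t ht, mul_one, ← funext hB2,
      ← H31.detHom_res S hχ' ⟨t, ht⟩] at h1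
    have h2 := congrArg (fun f => f ⟨t, ht⟩)
      (H31.detHom_comp (S.subtype.comp (powMonoidHom k)) hχ)
    simp only [MonoidHom.comp_apply, powMonoidHom_apply, Subgroup.subtype_apply,
      SubgroupClass.coe_pow] at h2
    rw [h2, hdet1 _ (S.pow_mem ht k)] at h1
    rw [← orderOf_eq_one_iff]
    exact Nat.eq_one_of_dvd_coprimes (hcop.coprime_dvd_left hdG) (orderOf_dvd_of_pow_eq_one h1.symm)
      ((orderOf_map_dvd _ t).trans (S.orderOf_dvd_natCard ht))
  have := hB2 (c * s)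
  rw [map_mul, hB1 c hc, hBS s hs, hcs.mul_pow, hpow c hc,
    (pow_eq_pow_iff_modEq (x := s)).2 (hk2.of_dvd (S.orderOf_dvd_natCard hs))] at this
  simpa using this

omit [Fintype Γ] in
theorem centralizer_of_zpowers {s : Γ} (hs : Subgroup.zpowers s = S) :
    Subgroup.centralizer (S : Set Γ) = Subgroup.centralizer {s} := by
  rw [← hs, Subgroup.zpowers_eq_closure, Subgroup.centralizer_closure]

omit [Fintype Γ] in
theorem comm_of_isCyclic (hcyc : IsCyclic S) (a b : S) : a * b = b * a :=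
  hcyc.isMulCommutative.is_comm.comm a b

theorem inner_partial_ext [Fintype G] [Fintype C] [hG : G.Normal] {y : Γ}
    (hcop : (Nat.card G).Coprime (orderOf y)) (hC : C = G ⊓ Subgroup.centralizer {y})
    {χ : Γ → ℂ} (hχ : IsIrrCharacter Γ χ) (hχG : IsIrrCharacter G fun g : G => χ g) :
    classInner (fun c : C => χ (c * y)) (fun c : C => χ (c * y)) = 1 := by
  rw [inner_partial_eq hcop hC (H6.irr_isClassFunction hχ) (H6.irr_isClassFunction hχ)]
  exact congrFun ((Cfsg.Agent.S0868.result G χ hχ hχG χ hχ _ rfl).2.2 rfl) y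

/-- The cyclic Glauberman correspondent. -/
theorem exists_corr_cyclic [Fintype G] [Fintype C] [hG : G.Normal]
    (hcop : (Nat.card G).Coprime (Nat.card S)) (htop : G ⊔ S = ⊤) (hcyc : IsCyclic S)
    (hC : C = G ⊓ Subgroup.centralizer (S : Set Γ)) {χ : Γ → ℂ} (hχ : IsIrrCharacter Γ χ)
    (hχG : IsIrrCharacter G fun g : G => χ g) (hdet : (detOrder χ).Coprime (Nat.card S)) :
    ∃ (β : IrrCharacter C) (ε : ℤ), (ε = 1 ∨ ε = -1) ∧
      ∀ (c : C) (s : Γ), Subgroup.zpowers s = S → χ (c * s) = ε * β.1 c := by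
  classical
  obtain ⟨s, hs⟩ := (Subgroup.isCyclic_iff_exists_zpowers_eq_top S).1 hcyc
  have hsS : s ∈ S := hs ▸ Subgroup.mem_zpowers s
  have ho : orderOf s = Nat.card S := by rw [← hs, Nat.card_zpowers]
  have hχc := H6.irr_isCharacter hχ
  have hCS : ∀ (c : C) (x : S), Commute (c : Γ) x := fun c x =>
    (Subgroup.mem_centralizer_iff.1 ((hC.le c.2).2) x x.2).symm
  have hpow : ∀ (c : C) (m : ℕ), m.Coprime (Nat.card S) → χ (c * s ^ m) = χ (c * s) :=
    fun c m hm => canonical_pow hcop htop (comm_of_isCyclic hcyc) hχc hχG hdet (hC.le c.2).1 hsS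
      (hCS c ⟨s, hsS⟩) hm
  have hcf := isClassFunction_partial C (fun c => hCS c ⟨s, hsS⟩) (H6.irr_isClassFunction hχ)
  have hgen : IsGeneralizedCharacter C fun c : C => χ (c * s) := by
    refine H6.isGen_of_inner hcf fun β hβ => ?_
    refine H8.exists_int_of_forall_pow_eq (H6.char_isGen
      (isCharacter_partial C S hCS hχc (H6.irr_isCharacter hβ))) ⟨s, hsS⟩ fun m hm => ?_
    rw [Subgroup.orderOf_mk, ho] at hm
    simp only [SubgroupClass.coe_pow, hpow _ m hm]
  have hall : ∀ (c : C) (t : Γ), Subgroup.zpowers t = S → χ (c * t) = χ (c * s) := by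
    intro c t ht
    obtain ⟨m, rfl⟩ := (mem_powers_iff_mem_zpowers (x := s) (y := t)).2
      (hs.symm ▸ ht ▸ Subgroup.mem_zpowers t)
    refine hpow c m ?_
    have h1 : orderOf (s ^ m) = orderOf s := by rw [ho, ← ht, Nat.card_zpowers]
    rw [← ho]
    rw [orderOf_pow, Nat.div_eq_self] at h1
    exact Nat.Coprime.symm (h1.resolve_left (orderOf_pos s).ne')
  rcases H6.irr_or_neg_irr_of_inner_self hgen (inner_partial_ext (ho ▸ hcop)
    (by rw [hC, centralizer_of_zpowers hs]) hχ hχG) with h | h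
  · exact ⟨⟨_, h⟩, 1, Or.inl rfl, fun c t ht => by simp [hall c t ht]⟩
  · exact ⟨⟨_, h⟩, -1, Or.inr rfl, fun c t ht => by simp [hall c t ht]⟩

end cyc

end H88
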